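import Mathlib.AlgebraicGeometry.Group.Affine
import Mathlib.AlgebraicGeometry.Morphisms.Flat
import Mathlib.CategoryTheory.Comma.Over.Pullback

/-!
# Points of affine schemes over an affine base
-/

set_option autoImplicit false

universe u

open CategoryTheory Limits AlgebraicGeometry

namespace Groth.Agent.SekLib

variable {R : Type u} [CommRing R] {A A' : Type u} [CommRing A] [Algebra R A] [CommRing A'] [Algebra R A']

/-- The sections of a scheme over `Spec R` as an `R`-algebra. -/
@[instance_reducible]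
noncomputable def secAlgebra (T : Over (Spec (CommRingCat.of R))) : Algebra R Γ(T.left, ⊤) :=
  ((Scheme.ΓSpecIso (CommRingCat.of R)).inv ≫ T.hom.appTop).hom.toAlgebra

attribute [local instance] secAlgebra

/-- `Spec A` over `Spec R`. -/
noncomputable abbrev specOver (R A : Type u) [CommRing R] [CommRing A] [Algebra R A] :
    Over (Spec (CommRingCat.of R)) := (Spec (.of A)).asOver (Spec (.of R))

/-- The algebra map attached to a point. -/
noncomputable def ptHom {T : Over (Spec (CommRingCat.of R))} (x : T ⟶ specOver R A) : A →ₐ[R] Γ(T.left, ⊤) where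
  __ := ((Scheme.ΓSpecIso (CommRingCat.of A)).inv ≫ x.left.appTop).hom
  commutes' r := by
    have h := Over.w x
    show (CommRingCat.ofHom (algebraMap R A) ≫ (Scheme.ΓSpecIso (CommRingCat.of A)).inv ≫ x.left.appTop).hom r = _
    rw [Scheme.ΓSpecIso_inv_naturality_assoc]
    show ((Scheme.ΓSpecIso (CommRingCat.of R)).inv ≫ (x.left ≫ (specOver R A).hom).appTop).hom r = _
    rw [h]
    rfl

theorem ptHom_injective {T : Over (Spec (CommRingCat.of R))} {x y : T ⟶ specOver R A}
    (h : ptHom x = ptHom y) : x = y := by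
  have : IsAffine (specOver R A).left := inferInstanceAs (IsAffine (Spec (CommRingCat.of A)))
  refine Over.OverMorphism.ext (ext_of_isAffine ?_)
  refine (cancel_epi (Scheme.ΓSpecIso (CommRingCat.of A)).inv).mp ?_
  exact CommRingCat.hom_ext (RingHom.ext fun a => DFunLike.congr_fun h a)

theorem exists_ptHom_eq {T : Over (Spec (CommRingCat.of R))} (φ : A →ₐ[R] Γ(T.left, ⊤)) :
    ∃ x : T ⟶ specOver R A, ptHom x = φ := by
  refine ⟨Over.homMk (T.left.toSpecΓ ≫ Spec.map (CommRingCat.ofHom φ.toRingHom)) ?_, AlgHom.ext fun a => ?_⟩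
  · show (T.left.toSpecΓ ≫ Spec.map _) ≫ Spec.map (CommRingCat.ofHom (algebraMap R A)) = T.hom
    rw [Category.assoc, ← Spec.map_comp]
    refine ext_of_isAffine ?_
    rw [← cancel_epi (Scheme.ΓSpecIso (CommRingCat.of R)).inv, Scheme.Hom.comp_appTop,
      ← Scheme.ΓSpecIso_inv_naturality_assoc, Scheme.toSpecΓ_appTop, Iso.inv_hom_id, Category.comp_id]
    exact CommRingCat.hom_ext (RingHom.ext fun r => φ.commutes r)
  · show ((Scheme.ΓSpecIso (CommRingCat.of A)).inv ≫ (T.left.toSpecΓ ≫ Spec.map _).appTop).hom a = φ a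
    rw [Scheme.Hom.comp_appTop, ← Scheme.ΓSpecIso_inv_naturality_assoc, Scheme.toSpecΓ_appTop, Iso.inv_hom_id,
      Category.comp_id]
    rfl

theorem ptHom_comp {T : Over (Spec (CommRingCat.of R))} (x : T ⟶ specOver R A) (f : A' →ₐ[R] A)
    (g : specOver R A ⟶ specOver R A') (hg : g.left = Spec.map (CommRingCat.ofHom f.toRingHom)) :
    ptHom (x ≫ g) = (ptHom x).comp f := by
  refine AlgHom.ext fun a => ?_
  show ((Scheme.ΓSpecIso (CommRingCat.of A')).inv ≫ (x.left ≫ g.left).appTop).hom a = _
  rw [hg]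
  refine (congrArg (fun m => CommRingCat.Hom.hom m a)
    (Scheme.ΓSpecIso_inv_naturality_assoc (CommRingCat.ofHom f.toRingHom) x.left.appTop).symm).trans ?_
  rfl

theorem ptHom_comp_left {T T' : Over (Spec (CommRingCat.of R))} (k : T' ⟶ T) (x : T ⟶ specOver R A) (a : A) :
    ptHom (k ≫ x) a = k.left.appTop (ptHom x a) := rfl

/-- A base change is invertible if it induces bijections on points. -/
theorem isIso_pullback_map_of_bijective {S S' : Scheme.{u}} (f : S' ⟶ S) {X Y : Over S} (g : X ⟶ Y)
    (h : ∀ T : Over S', Function.Bijective fun x : (Over.map f).obj T ⟶ X => x ≫ g) :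
    IsIso ((Over.pullback f).map g) := by
  rw [isIso_iff_yoneda_map_bijective]
  intro T
  have e : (fun x : T ⟶ (Over.pullback f).obj X => x ≫ (Over.pullback f).map g) =
      (Over.mapPullbackAdj f).homEquiv T Y ∘ (fun x => x ≫ g) ∘ ((Over.mapPullbackAdj f).homEquiv T X).symm := by
    funext x
    obtain ⟨y, rfl⟩ := ((Over.mapPullbackAdj f).homEquiv T X).surjective x
    simp [Adjunction.homEquiv_naturality_right]
  rw [e]
  exact ((Over.mapPullbackAdj f).homEquiv T Y).bijective.comp ((h T).comp (Equiv.bijective _))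

end Groth.Agent.SekLib
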