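import Groth.Agent.SekLib.GKFree
import Groth.Agent.GITLib.DedekindTorsor
import Mathlib.GroupTheory.SpecificGroups.Cyclic

/-!
# Actions of G_{μ,p} on G_{λ,p} by automorphisms are trivial
-/

set_option autoImplicit false

universe u

open CategoryTheory Limits MonoidalCategory CartesianMonoidalCategory MonObj AlgebraicGeometry SekSuwa Polynomial

namespace Groth.Agent.SekLib

attribute [local instance] secAlgebra

/-- A prime order group acting on a prime order group by automorphisms acts trivially. -/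
theorem eq_self_of_card_prime {A B : Type*} [Group A] [Group B] {p : ℕ} (hp : p.Prime) (hA : Nat.card A = p)
    (hB : Nat.card B = p) (act : A → B → B) (h1 : ∀ x, act 1 x = x)
    (hmul : ∀ g g' x, act (g * g') x = act g (act g' x)) (haut : ∀ g x y, act g (x * y) = act g x * act g y)
    (g : A) (x : B) : act g x = x := by
  have : Fact p.Prime := ⟨hp⟩
  let φ : A →* MulAut B :=
    { toFun := fun g =>
        { toFun := act g
          invFun := act g⁻¹
          left_inv := fun x => by rw [← hmul, inv_mul_cancel, h1]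
          right_inv := fun x => by rw [← hmul, mul_inv_cancel, h1]
          map_mul' := haut g }
      map_one' := MulEquiv.ext h1
      map_mul' := fun g g' => MulEquiv.ext (hmul g g') }
  have : IsCyclic B := isCyclic_of_prime_card hB
  have : Finite B := Nat.finite_of_card_ne_zero (hB ▸ hp.ne_zero)
  have hc : Nat.card (MulAut B) = p - 1 := by
    rw [IsCyclic.card_mulAut, hB, Nat.totient_prime hp]
  have h2 : orderOf (φ g) ∣ p - 1 := hc ▸ orderOf_dvd_natCard _
  have h3 : orderOf (φ g) ∣ p := (orderOf_map_dvd φ g).trans (hA ▸ orderOf_dvd_natCard g)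
  have h4 : φ g = 1 := by
    rw [← orderOf_eq_one_iff]
    rcases (Nat.dvd_prime hp).mp h3 with h | h
    · exact h
    · exfalso
      rw [h] at h2
      have := Nat.le_of_dvd (by have := hp.two_le; omega) h2
      have := hp.two_le
      omega
  exact DFunLike.congr_fun h4 x

variable {R : Type u} [CommRing R] {lam : R} {N : ℕ} (h : DivCond lam N)

/-- The points of G_{λ,N} in an algebra: roots of P. -/
theorem exists_pt (hN : 0 < N) {B : Type u} [CommRing B] [Algebra R B] (b : B)
    (hb : aeval b (psiPoly lam N h) = 0) : ∃ φ : AK R lam N h →ₐ[R] B, φ AK.t = b := by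
  have hu : (1 + lam • b) * (1 + lam • b) ^ (N - 1) = 1 := by
    rw [← pow_succ', Nat.sub_add_cancel hN, Algebra.smul_def]
    have e := aeval_psiPoly h b
    rw [hb, mul_zero] at e
    exact sub_eq_zero.mp e.symm
  exact ⟨Ideal.Quotient.liftₐ (kerIdeal lam N h) (A.lift R lam b _ hu) (by
      intro a ha
      obtain ⟨d, rfl⟩ := Ideal.mem_span_singleton'.mp ha
      rw [map_mul, kerGen, ← Polynomial.aeval_algHom_apply, A.lift_t, hb, mul_zero]), A.lift_t b _ hu⟩

/-- A point is determined by its value on `t`, and a value is possible exactly when it is a root. -/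
noncomputable def ptsEquiv (hN : 0 < N) (T : Over (Spec (CommRingCat.of R))) :
    (T ⟶ GK R lam N h) ≃ {b : Γ(T.left, ⊤) // aeval b (psiPoly lam N h) = 0} :=
  Equiv.ofBijective (fun x => ⟨ptHom (A := AK R lam N h) x AK.t, by
      rw [Polynomial.aeval_algHom_apply, AK.aeval_t, map_zero]⟩)
    ⟨fun x y e => ptHom_injective (A := AK R lam N h) (pt_ext h (congrArg Subtype.val e)), fun b => by
      obtain ⟨φ, hφ⟩ := exists_pt h hN b.1 b.2
      obtain ⟨x, hx⟩ := exists_ptHom_eq (A := AK R lam N h) φ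
      exact ⟨x, Subtype.ext ((DFunLike.congr_fun hx _).trans hφ)⟩⟩

variable (Ω : Type u) [Field Ω] [IsAlgClosed Ω] [CharZero Ω] [Algebra R Ω]

theorem deriv_ne_zero (hN : 0 < N) (hl : algebraMap R Ω lam ≠ 0) {r : Ω} (hr : aeval r (psiPoly lam N h) = 0) :
    (derivative ((psiPoly lam N h).map (algebraMap R Ω))).eval r ≠ 0 := by
  intro h0
  have e := congrArg (fun q : R[X] => (derivative (q.map (algebraMap R Ω))).eval r) (psiPoly_spec h)
  simp only [Polynomial.map_mul, Polynomial.map_C, derivative_C_mul, eval_mul, eval_C, Polynomial.map_sub,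
    Polynomial.map_pow, Polynomial.map_add, Polynomial.map_one, Polynomial.map_X, derivative_sub, derivative_one,
    sub_zero, derivative_pow, derivative_add, zero_add, derivative_X, mul_one, eval_pow, eval_add, eval_one,
    eval_X, h0, mul_zero] at e
  have h1 : (1 + algebraMap R Ω lam * r) ^ N = 1 := by
    have e1 := aeval_psiPoly h r
    rw [hr, mul_zero] at e1
    exact sub_eq_zero.mp e1.symm
  have h2 : (1 + algebraMap R Ω lam * r) ≠ 0 := fun e2 => by
    rw [e2, zero_pow hN.ne'] at h1
    exact zero_ne_one h1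
  exact (mul_ne_zero (mul_ne_zero (Nat.cast_ne_zero.mpr hN.ne') (pow_ne_zero _ h2)) (by simpa using hl)) e.symm

theorem card_roots (hN : 0 < N) (hl : algebraMap R Ω lam ≠ 0) :
    Nat.card {b : Ω // aeval b (psiPoly lam N h) = 0} = N := by
  classical
  have : Nontrivial R := RingHom.domain_nontrivial (algebraMap R Ω)
  let q := (psiPoly lam N h).map (algebraMap R Ω)
  have hq : q ≠ 0 := ((psiPoly_monic h hN).map _).ne_zero
  have hroot : ∀ b, b ∈ q.roots ↔ aeval b (psiPoly lam N h) = 0 := fun b => by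
    rw [mem_roots hq, IsRoot, Polynomial.eval_map, aeval_def]
  have hnd : q.roots.Nodup := Multiset.nodup_iff_count_le_one.mpr fun b => by
    rw [count_roots]
    by_contra hlt
    obtain ⟨h1, h2⟩ := (one_lt_rootMultiplicity_iff_isRoot hq).mp (not_le.mp hlt)
    exact deriv_ne_zero h Ω hN hl ((hroot b).mp ((mem_roots hq).mpr h1)) h2
  rw [Nat.card_congr (Equiv.subtypeEquivRight (q := fun b => b ∈ q.roots.toFinset) fun b => by
    rw [Multiset.mem_toFinset, hroot]), Nat.card_eq_fintype_card, Fintype.card_coe,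
    Multiset.toFinset_card_of_nodup hnd, IsAlgClosed.card_roots_eq_natDegree,
    (psiPoly_monic h hN).natDegree_map, psiPoly_natDegree h hN]

/-- In a local `Ω`-algebra a root of P is one of the roots in `Ω`. -/
theorem exists_eq_root (hN : 0 < N) (hl : algebraMap R Ω lam ≠ 0) {L : Type u} [CommRing L] [IsLocalRing L]
    [Algebra R L] [Algebra Ω L] [IsScalarTower R Ω L] {b : L} (hb : aeval b (psiPoly lam N h) = 0) :
    ∃ r : Ω, aeval r (psiPoly lam N h) = 0 ∧ b = algebraMap Ω L r := by
  let q := (psiPoly lam N h).map (algebraMap R Ω)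
  have hq : q.Monic := (psiPoly_monic h hN).map _
  have hqL : aeval b q = 0 := by rwa [aeval_map_algebraMap]
  let res := (IsLocalRing.residue L).comp (algebraMap Ω L)
  have h0 : eval₂ res (IsLocalRing.residue L b) q = 0 := by
    rw [← hom_eval₂]
    exact (congrArg _ hqL).trans (map_zero _)
  have hsplit : q = (q.roots.map fun r => X - C r).prod :=
    (IsAlgClosed.splits q).eq_prod_roots_of_monic hq
  rw [hsplit, ← coe_eval₂RingHom, map_multiset_prod, Multiset.map_map, Multiset.prod_eq_zero_iff,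
    Multiset.mem_map] at h0
  obtain ⟨r, hr, hr0⟩ := h0
  rw [Function.comp_apply, coe_eval₂RingHom, eval₂_sub, eval₂_X, eval₂_C, RingHom.comp_apply, ← map_sub,
    IsLocalRing.residue_eq_zero_iff] at hr0
  have hr' : aeval r (psiPoly lam N h) = 0 := by
    rw [mem_roots hq.ne_zero, IsRoot, Polynomial.eval_map, ← aeval_def] at hr
    exact hr
  refine ⟨r, hr', sub_eq_zero.mp ?_⟩
  obtain ⟨c, hc⟩ := binomExpansion (q.map (algebraMap Ω L)) (algebraMap Ω L r) (b - algebraMap Ω L r)
  have hqr : (q.map (algebraMap Ω L)).eval (algebraMap Ω L r) = 0 := by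
    rw [eval_map_apply, Polynomial.eval_map, ← aeval_def, hr', map_zero]
  have hqb : (q.map (algebraMap Ω L)).eval b = 0 := by rw [Polynomial.eval_map, ← aeval_def]; exact hqL
  rw [add_sub_cancel, hqb, hqr, zero_add, derivative_map, eval_map_apply] at hc
  have hu : IsUnit (algebraMap Ω L ((derivative q).eval r) + c * (b - algebraMap Ω L r)) := by
    by_contra hu
    rw [← mem_nonunits_iff, ← IsLocalRing.mem_maximalIdeal] at hu
    have h1 : algebraMap Ω L ((derivative q).eval r) ∈ IsLocalRing.maximalIdeal L := by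
      have h2 := Ideal.sub_mem _ hu (Ideal.mul_mem_left _ c hr0)
      simpa using h2
    exact ((IsLocalRing.mem_maximalIdeal _).mp h1) ((isUnit_iff_ne_zero.mpr (deriv_ne_zero h Ω hN hl hr')).map _)
  refine (hu.mul_right_eq_zero).mp ?_
  linear_combination -hc

omit [IsAlgClosed Ω] [CharZero Ω] in
theorem secAlgebra_map_apply (V : Over (Spec (CommRingCat.of Ω))) (t : R) :
    algebraMap R Γ(((Over.map (Spec.map (CommRingCat.ofHom (algebraMap R Ω)))).obj V).left, ⊤) t =
      algebraMap Ω Γ(V.left, ⊤) (algebraMap R Ω t) := by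
  show ((Scheme.ΓSpecIso (CommRingCat.of R)).inv ≫
    (V.hom ≫ Spec.map (CommRingCat.ofHom (algebraMap R Ω))).appTop).hom t = _
  rw [Scheme.Hom.comp_appTop, ← Scheme.ΓSpecIso_inv_naturality_assoc]
  rfl

omit [IsAlgClosed Ω] [CharZero Ω] in
theorem algebraMap_pullback {V W : Over (Spec (CommRingCat.of Ω))} (k : W ⟶ V) (r : Ω) :
    k.left.appTop (algebraMap Ω Γ(V.left, ⊤) r) = algebraMap Ω Γ(W.left, ⊤) r := by
  show ((Scheme.ΓSpecIso (CommRingCat.of Ω)).inv ≫ V.hom.appTop ≫ k.left.appTop).hom r = _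
  rw [← Scheme.Hom.comp_appTop, Over.w k]
  rfl

/-- The constant points. -/
theorem exists_const (hN : 0 < N) (hl : algebraMap R Ω lam ≠ 0) (V : Over (Spec (CommRingCat.of Ω)))
    (x : (Over.map (Spec.map (CommRingCat.ofHom (algebraMap R Ω)))).obj V ⟶ GK R lam N h) (v : V.left) :
    ∃ (U : V.left.Opens) (x₀ : (Over.map (Spec.map (CommRingCat.ofHom (algebraMap R Ω)))).obj (𝟙_ _) ⟶ GK R lam N h),
      v ∈ U ∧ ∀ {W : Over (Spec (CommRingCat.of Ω))} (k : W ⟶ V), Set.range k.left.base ⊆ U →
        (Over.map _).map k ≫ x = (Over.map _).map (toUnit W) ≫ x₀ := by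
  let f := Spec.map (CommRingCat.ofHom (algebraMap R Ω))
  let b : Γ(((Over.map f).obj V).left, ⊤) := ptHom (A := AK R lam N h) x AK.t
  let gm := V.left.presheaf.germ ⊤ v trivial
  letI : Algebra Ω (V.left.presheaf.stalk v) := (gm.hom.comp (algebraMap Ω Γ(V.left, ⊤))).toAlgebra
  letI : Algebra R (V.left.presheaf.stalk v) :=
    (gm.hom.comp (algebraMap R Γ(((Over.map f).obj V).left, ⊤))).toAlgebra
  have : IsScalarTower R Ω (V.left.presheaf.stalk v) := IsScalarTower.of_algebraMap_eq fun t =>
    congrArg gm (secAlgebra_map_apply (Ω := Ω) V t)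
  let gm' : Γ(((Over.map f).obj V).left, ⊤) →ₐ[R] V.left.presheaf.stalk v :=
    { toRingHom := gm.hom, commutes' := fun t => rfl }
  have hb : aeval (gm' b) (psiPoly lam N h) = 0 := by
    rw [Polynomial.aeval_algHom_apply]
    have : aeval b (psiPoly lam N h) = 0 := by
      rw [Polynomial.aeval_algHom_apply, AK.aeval_t, map_zero]
    exact (congrArg gm' this).trans (map_zero gm')
  obtain ⟨r, hr, hbr⟩ := exists_eq_root h Ω hN hl hb
  obtain ⟨U, hvU, i₁, i₂, hU⟩ := V.left.presheaf.germ_eq v (U := (⊤ : V.left.Opens)) (V := (⊤ : V.left.Opens)) trivial trivial b (algebraMap Ω Γ(V.left, ⊤) r) hbr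
  let e : Ω →ₐ[R] Γ(((Over.map f).obj (𝟙_ (Over (Spec (CommRingCat.of Ω))))).left, ⊤) :=
    { toRingHom := algebraMap Ω Γ((𝟙_ (Over (Spec (CommRingCat.of Ω)))).left, ⊤)
      commutes' := fun t => (secAlgebra_map_apply (Ω := Ω) (𝟙_ _) t).symm }
  let x₀ := (ptsEquiv h hN _).symm ⟨e r, by rw [Polynomial.aeval_algHom_apply, hr, map_zero]⟩
  refine ⟨U, x₀, hvU, fun {W} k hk => ptHom_injective (A := AK R lam N h) (pt_ext h ?_)⟩
  have hx₀ : ptHom (A := AK R lam N h) x₀ AK.t = e r :=
    congrArg Subtype.val ((ptsEquiv h hN _).apply_symm_apply _)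
  rw [ptHom_comp_left, ptHom_comp_left, hx₀]
  show k.left.appTop b = (toUnit W).left.appTop (algebraMap Ω _ r)
  rw [algebraMap_pullback, ← algebraMap_pullback Ω k r]
  have hle : (⊤ : W.left.Opens) ≤ k.left ⁻¹ᵁ U := fun w _ => hk ⟨w, rfl⟩
  have hk' := congrArg (k.left.appLE U ⊤ hle) hU
  rw [← CommRingCat.comp_apply, ← CommRingCat.comp_apply, Scheme.Hom.map_appLE, Scheme.Hom.map_appLE] at hk'
  simpa [Scheme.Hom.appLE] using hk'

/-- Actions by automorphisms of G_{μ,p} on G_{λ,p} are trivial in characteristic zero. -/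
theorem act_eq_snd [IsDomain R] [CharZero R] {p : ℕ} [Fact p.Prime] {lam mu : R} (h₁ : DivCond lam p)
    (h₂ : DivCond mu p) (a : AlgGrp.Action (GK R mu p h₂) (GK R lam p h₁))
    (hmul : ∀ (T : Over (Spec (CommRingCat.of R))) (g : T ⟶ GK R mu p h₂)
      (x y : T ⟶ GK R lam p h₁), lift g (x * y) ≫ a.act = (lift g x ≫ a.act) * (lift g y ≫ a.act)) :
    a.act = snd _ _ := by
  have hp : p.Prime := Fact.out
  let Ω := AlgebraicClosure (FractionRing R)
  have : CharZero (FractionRing R) := charZero_of_injective_algebraMap (IsFractionRing.injective R _)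
  have : CharZero Ω := charZero_of_injective_algebraMap (algebraMap (FractionRing R) Ω).injective
  have hinj : Function.Injective (algebraMap R Ω) := by
    rw [IsScalarTower.algebraMap_eq R (FractionRing R) Ω]
    exact (algebraMap (FractionRing R) Ω).injective.comp (IsFractionRing.injective R (FractionRing R))
  have hne : ∀ {l : R}, DivCond l p → algebraMap R Ω l ≠ 0 := fun {l} h e =>
    nonZeroDivisors.ne_zero h.nzd (hinj (e.trans (map_zero _).symm))
  let f := Spec.map (CommRingCat.ofHom (algebraMap R Ω))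
  have : IsSchemeTheoreticallyDominant f := by
    rw [isSchemeTheoreticallyDominant_iff]
    refine Scheme.IdealSheafData.ext_of_isAffine ?_
    simp only [Scheme.Hom.ker_apply, Scheme.IdealSheafData.ideal_bot, Pi.bot_apply]
    rw [← RingHom.injective_iff_ker_eq_bot]
    intro x y hxy
    have h1 := congr($(Scheme.ΓSpecIso_naturality (CommRingCat.ofHom (algebraMap R Ω))) x)
    have h2 := congr($(Scheme.ΓSpecIso_naturality (CommRingCat.ofHom (algebraMap R Ω))) y)
    apply (Scheme.ΓSpecIso (CommRingCat.of R)).commRingCatIsoToRingEquiv.injective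
    apply hinj
    exact h1.symm.trans ((congrArg _ hxy).trans h2)
  have hF := fun (l : R) (h : DivCond l p) => (isFinLocFreeOfDeg_GK h hp.pos).1
  have : Flat (GK R mu p h₂).hom := (hF mu h₂).2.1
  have : Flat (GK R lam p h₁).hom := (hF lam h₁).2.1
  have : IsFinite (GK R lam p h₁).hom := (hF lam h₁).1
  have : Flat (GK R mu p h₂ ⊗ GK R lam p h₁).hom := by
    show Flat (pullback.fst (GK R mu p h₂).hom (GK R lam p h₁).hom ≫ (GK R mu p h₂).hom)
    infer_instance
  let T₀ := (Over.map f).obj (𝟙_ (Over (Spec (CommRingCat.of Ω))))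
  have hcard : ∀ {l : R} (h : DivCond l p), Nat.card (T₀ ⟶ GK R l p h) = p := by
    intro l h
    rw [Nat.card_congr (ptsEquiv h hp.pos T₀)]
    let e : Ω ≃ₐ[R] Γ(T₀.left, ⊤) :=
      { (Scheme.ΓSpecIso (CommRingCat.of Ω)).commRingCatIsoToRingEquiv.symm with
        commutes' := fun t => by
          have h' := secAlgebra_map_apply (Ω := Ω) (𝟙_ (Over (Spec (CommRingCat.of Ω)))) t
          refine Eq.trans ?_ h'.symm
          show _ = ((Scheme.ΓSpecIso (CommRingCat.of Ω)).inv ≫ Scheme.Hom.appTop (CategoryStruct.id (Spec (CommRingCat.of Ω)))).hom _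
          simp
          rfl }
    refine Eq.trans ?_ (card_roots h Ω hp.pos (hne h))
    exact (Nat.card_congr (e.toEquiv.subtypeEquiv fun b => by
      show _ ↔ aeval (e b) (psiPoly l p h) = 0
      rw [Polynomial.aeval_algHom_apply, map_eq_zero_iff e e.injective])).symm
  refine GITLib.ext_generic f ?_
  let V := (Over.pullback f).obj (GK R mu p h₂ ⊗ GK R lam p h₁)
  let j := (Over.mapPullbackAdj f).counit.app (GK R mu p h₂ ⊗ GK R lam p h₁)
  refine Over.OverMorphism.ext ?_
  choose U g₀ hvU hg₀ using exists_const h₂ Ω hp.pos (hne h₂) V (j ≫ fst _ _)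
  choose U' x₀ hvU' hx₀ using exists_const h₁ Ω hp.pos (hne h₁) V (j ≫ snd _ _)
  let 𝒰 : V.left.OpenCover := V.left.openCoverOfIsOpenCover (fun v => U v ⊓ U' v)
    (TopologicalSpace.IsOpenCover.mk (TopologicalSpace.Opens.ext (Set.eq_univ_of_forall fun v =>
      TopologicalSpace.Opens.mem_iSup.mpr ⟨v, hvU v, hvU' v⟩)))
  refine 𝒰.hom_ext _ _ fun (v : V.left) => ?_
  let k : Over.mk ((U v ⊓ U' v).ι ≫ V.hom) ⟶ V := Over.homMk (U v ⊓ U' v).ι rfl
  have hk : Set.range k.left.base ⊆ (U v ⊓ U' v : V.left.Opens) := fun w hw =>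
    (Scheme.Opens.range_ι _).subset hw
  refine congrArg CommaMorphism.left (?_ : (Over.map f).map k ≫ j ≫ a.act = (Over.map f).map k ≫ j ≫ snd _ _)
  have hj : (Over.map f).map k ≫ j =
      lift ((Over.map f).map k ≫ j ≫ fst _ _) ((Over.map f).map k ≫ j ≫ snd _ _) :=
    CartesianMonoidalCategory.hom_ext _ _ (by simp) (by simp)
  rw [← Category.assoc, hj, hg₀ v k (hk.trans (fun w hw => hw.1)), hx₀ v k (hk.trans (fun w hw => hw.2)),
    ← comp_lift, Category.assoc]
  congr 1
  exact eq_self_of_card_prime hp (hcard h₂) (hcard h₁) (fun g x => lift g x ≫ a.act) a.lift_one_act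
    (fun g g' x => a.lift_mul_act g g' x) (hmul T₀) (g₀ v) (x₀ v)

end Groth.Agent.SekLib
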