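import Groth.Agent.SekLib.AlphaN
import Groth.Prelude.Def_Mor2
import Mathlib.RingTheory.AdjoinRoot
import Mathlib.AlgebraicGeometry.Morphisms.FlatRank

/-!
# The coordinate ring of G_{λ,N} is free of rank N
-/

set_option autoImplicit false

universe u

open CategoryTheory Limits AlgebraicGeometry SekSuwa Polynomial

namespace Groth.Agent.SekLib

variable {R : Type u} [CommRing R] {lam : R} {N : ℕ} (h : DivCond lam N)

theorem psiPoly_coeff_self (hN : 0 < N) : (psiPoly lam N h).coeff N = 1 := by
  have e := congrArg (fun P => P.coeff N) (psiPoly_spec h)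
  simp only [coeff_C_mul, coeff_sub] at e
  have h1 : ((1 + C lam * X : R[X]) ^ N).coeff N = lam ^ N := by
    rw [show (1 + C lam * X : R[X]) = C lam * X + C 1 by rw [map_one, add_comm]]
    have hd : (C lam * X + C 1 : R[X]).natDegree ≤ 1 := natDegree_linear_le
    have := coeff_pow_of_natDegree_le (m := N) hd
    rw [mul_one] at this
    rw [this]
    simp [coeff_one]
  rw [h1, coeff_one, if_neg hN.ne', sub_zero] at e
  exact cancel_nzd h.pow_nzd (e.trans (mul_one _).symm)

theorem psiPoly_natDegree_le : (psiPoly lam N h).natDegree ≤ N := by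
  rw [natDegree_le_iff_coeff_eq_zero]
  intro m hm
  have e := congrArg (fun P => P.coeff m) (psiPoly_spec h)
  simp only [coeff_C_mul, coeff_sub] at e
  have h1 : ((1 + C lam * X : R[X]) ^ N).coeff m = 0 := by
    refine coeff_eq_zero_of_natDegree_lt (lt_of_le_of_lt (natDegree_pow_le_of_le N (m := 1) ?_) (by omega))
    rw [show (1 + C lam * X : R[X]) = C lam * X + C 1 by rw [map_one, add_comm]]
    exact natDegree_linear_le
  rw [h1, coeff_one, if_neg (by omega), sub_zero] at e
  exact cancel_nzd h.pow_nzd (e.trans (mul_zero _).symm)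

theorem psiPoly_monic (hN : 0 < N) : (psiPoly lam N h).Monic :=
  monic_of_natDegree_le_of_coeff_eq_one N (psiPoly_natDegree_le h) (psiPoly_coeff_self h hN)

theorem psiPoly_natDegree [Nontrivial R] (hN : 0 < N) : (psiPoly lam N h).natDegree = N :=
  le_antisymm (psiPoly_natDegree_le h) (le_natDegree_of_ne_zero (by rw [psiPoly_coeff_self h hN]; exact one_ne_zero))

/-- `R[T]/(P) ≅` the coordinate ring of G_{λ,N}. -/
noncomputable def akEquiv (hN : 0 < N) : AdjoinRoot (psiPoly lam N h) ≃ₐ[R] AK R lam N h :=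
  let x := AdjoinRoot.root (psiPoly lam N h)
  have hx : aeval x (psiPoly lam N h) = 0 := by
    rw [AdjoinRoot.aeval_eq, AdjoinRoot.mk_self]
  have hrel : (1 + lam • x) * (1 + lam • x) ^ (N - 1) = 1 := by
    rw [← pow_succ', Nat.sub_add_cancel hN, Algebra.smul_def]
    have e := aeval_psiPoly h x
    rw [hx, mul_zero] at e
    exact (sub_eq_zero.mp e.symm)
  let f : AdjoinRoot (psiPoly lam N h) →ₐ[R] AK R lam N h :=
    AdjoinRoot.liftAlgHom (psiPoly lam N h) (Algebra.ofId R _) AK.t AK.aeval_t
  let g : AK R lam N h →ₐ[R] AdjoinRoot (psiPoly lam N h) := Ideal.Quotient.liftₐ (kerIdeal lam N h)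
    (A.lift R lam x ((1 + lam • x) ^ (N - 1)) hrel) (by
      intro a ha
      obtain ⟨d, rfl⟩ := Ideal.mem_span_singleton'.mp ha
      rw [map_mul, kerGen, ← Polynomial.aeval_algHom_apply, A.lift_t, hx, mul_zero])
  have hg : g AK.t = x := A.lift_t _ _ hrel
  have hf : f x = AK.t := AdjoinRoot.liftAlgHom_root _ _ _ _
  AlgEquiv.ofAlgHom f g (pt_ext h (by rw [AlgHom.comp_apply, hg, hf]; rfl))
    (AdjoinRoot.algHom_ext (by rw [AlgHom.comp_apply, hf, hg]; rfl))

theorem isFinLocFreeOfDeg_GK (hN : 0 < N) : Mor2.IsFinLocFreeOfDeg N (GK R lam N h).hom := by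
  have hm := psiPoly_monic h hN
  have := hm.free_adjoinRoot
  have hfree : Module.Free R (AK R lam N h) := Module.Free.of_equiv (akEquiv h hN).toLinearEquiv
  have hfin : Module.Finite R (AK R lam N h) := by
    have := hm.finite_adjoinRoot
    exact Module.Finite.equiv (akEquiv h hN).toLinearEquiv
  show Mor2.IsFinLocFreeOfDeg N (Spec.map (CommRingCat.ofHom (algebraMap R (AK R lam N h))))
  refine ⟨⟨?_, ?_, ?_⟩, fun y => ?_⟩
  · exact (IsFinite.SpecMap_iff _).mpr (RingHom.finite_algebraMap.mpr hfin)
  · exact Flat.SpecMap_iff.mpr (RingHom.flat_algebraMap_iff.mpr inferInstance)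
  · rw [HasRingHomProperty.Spec_iff (P := @LocallyOfFinitePresentation)]
    have : Module.FinitePresentation R (AK R lam N h) := Module.finitePresentation_of_projective R _
    exact RingHom.finitePresentation_algebraMap.mpr inferInstance
  · have : Nontrivial R := PrimeSpectrum.nontrivial (show PrimeSpectrum R from y)
    rw [Scheme.Hom.finrank_SpecMap_algebraMap, Module.rankAtStalk_eq_finrank_of_free]
    show Module.finrank R (AK R lam N h) = N
    rw [← (akEquiv h hN).toLinearEquiv.finrank_eq, (AdjoinRoot.powerBasis' hm).finrank,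
      AdjoinRoot.powerBasis'_dim, psiPoly_natDegree h hN]

end Groth.Agent.SekLib
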