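import Mathlib

/-!
# Linear independence of powers of a one-parameter coordinate in characteristic p
-/

set_option autoImplicit false

open Coalgebra TensorProduct Polynomial

namespace Groth.Agent.SekLib

variable {k B : Type*} [Field k] [CommRing B] [Bialgebra k B] [Module.Finite k B] {p : ℕ} [hp : Fact p.Prime]
  [CharP k p] {T : B}

/-- The primitive case. -/
theorem linearIndependent_pow_of_primitive (hT0 : T ≠ 0) (hε : counit (R := k) T = 0)
    (hΔ : comul (R := k) T = T ⊗ₜ[k] 1 + 1 ⊗ₜ[k] T) : LinearIndependent k fun i : Fin p => T ^ (i : ℕ) := by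
  classical
  have hint : IsIntegral k T := IsIntegral.of_finite k T
  set f := minpoly k T with hf
  set d := f.natDegree with hd
  have hli : LinearIndependent k fun i : Fin d => T ^ (i : ℕ) := linearIndependent_pow T
  suffices hpd : p ≤ d from hli.comp (Fin.castLE hpd) (Fin.castLE_injective hpd)
  by_contra hlt
  push_neg at hlt
  have : Nontrivial B := ⟨⟨T, 0, hT0⟩⟩
  have hd1 : d ≠ 1 := by
    intro h1
    obtain ⟨c, hc⟩ := minpoly.natDegree_eq_one_iff.mp h1
    have h2 : c = 0 := by
      rw [← hc] at hε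
      rw [show counit (R := k) (algebraMap k B c) = c from Bialgebra.counit_algebraMap c] at hε
      exact hε
    exact hT0 (by rw [← hc, h2, map_zero])
  have hd0 : 0 < d := minpoly.natDegree_pos hint
  let φ₀ : Submodule.span k (Set.range fun i : Fin d => T ^ (i : ℕ)) →ₗ[k] k :=
    (Finsupp.lapply ⟨1, by omega⟩).comp hli.repr
  obtain ⟨φ, hφ⟩ := LinearMap.exists_extend φ₀
  have hφn : ∀ n, n < d → φ (T ^ n) = if n = 1 then 1 else 0 := by
    intro n hn
    have hmem : T ^ n ∈ Submodule.span k (Set.range fun i : Fin d => T ^ (i : ℕ)) :=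
      Submodule.subset_span ⟨⟨n, hn⟩, rfl⟩
    have h1 : φ (T ^ n) = φ₀ ⟨T ^ n, hmem⟩ := LinearMap.congr_fun hφ ⟨T ^ n, hmem⟩
    rw [h1]
    show (hli.repr ⟨T ^ n, hmem⟩) ⟨1, by omega⟩ = _
    rw [hli.repr_eq_single ⟨n, hn⟩ ⟨T ^ n, hmem⟩ rfl, Finsupp.single_apply]
    simp [Fin.ext_iff]
  let L : B →ₗ[k] B := (TensorProduct.rid k B).toLinearMap ∘ₗ φ.lTensor B ∘ₗ comul
  have hL : ∀ n, n ≤ d → L (T ^ n) = (n : k) • T ^ (n - 1) +
      if n = d then φ (T ^ d) • (1 : B) else 0 := by
    intro n hn
    have h1 : comul (R := k) (T ^ n) = ∑ m ∈ Finset.range (n + 1),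
        (n.choose m : k) • ((T ^ m) ⊗ₜ[k] (T ^ (n - m))) := by
      rw [show comul (R := k) (T ^ n) = (comul (R := k) T) ^ n from map_pow (Bialgebra.comulAlgHom k B) T n,
        hΔ, add_pow]
      refine Finset.sum_congr rfl fun m _ => ?_
      rw [Algebra.TensorProduct.tmul_pow, Algebra.TensorProduct.tmul_pow, one_pow, one_pow,
        Algebra.TensorProduct.tmul_mul_tmul, mul_one, one_mul, mul_comm, ← nsmul_eq_mul, ← Nat.cast_smul_eq_nsmul k]
    show (TensorProduct.rid k B) (φ.lTensor B (comul (R := k) (T ^ n))) = _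
    rw [h1]
    simp only [map_sum, map_smul, LinearMap.lTensor_tmul, TensorProduct.rid_tmul]
    by_cases hn0 : n = 0
    · subst hn0
      simp only [zero_add, Finset.sum_range_one, Nat.cast_zero, zero_smul]
      rw [Nat.sub_zero, hφn 0 hd0, if_neg (by omega), if_neg (by omega)]
      simp
    by_cases hn1 : n = 1
    · subst hn1
      rw [if_neg (Ne.symm hd1), Finset.sum_range_succ, Finset.sum_range_one, Nat.sub_zero, Nat.sub_self,
        hφn 1 (by omega), hφn 0 hd0, if_pos rfl, if_neg (by omega)]
      simp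
    rw [Finset.sum_eq_add (n - 1) 0]
    · rw [show n - (n - 1) = 1 by omega, Nat.sub_zero, hφn 1 (by omega), if_pos rfl, one_smul]
      congr 1
      · rw [← Nat.choose_symm (by omega), show n - (n - 1) = 1 by omega, Nat.choose_one_right]
      · by_cases h : n = d
        · subst h
          rw [if_pos rfl]
          by_cases h2 : d = 1
          · exact absurd h2 hd1
          · simp
        · rw [if_neg h, hφn n (by omega)]
          rw [if_neg hn1]; simp
    · omega
    · intro m hm hne
      rw [hφn (n - m) (by rcases hne with ⟨h1, h2⟩; simp at hm; omega), if_neg, zero_smul, smul_zero]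
      rcases hne with ⟨h1, h2⟩
      simp at hm; omega
    · intro h; exact absurd (Finset.mem_range.mpr (by omega)) h
    · intro h; exact absurd (Finset.mem_range.mpr (by omega)) h
  have h0 : aeval T (derivative f) + φ (T ^ d) • (1 : B) = 0 := by
    have h1 := congrArg L (minpoly.aeval k T)
    rw [map_zero, aeval_eq_sum_range, map_sum] at h1
    rw [← h1, ← hd]
    have h2 : ∀ n ∈ Finset.range (d + 1), L (f.coeff n • T ^ n) =
        f.coeff n • ((n : k) • T ^ (n - 1)) + if n = d then φ (T ^ d) • (1 : B) else 0 := by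
      intro n hn
      rw [map_smul, hL n (by simp at hn; omega), smul_add]
      congr 1
      split_ifs with h
      · subst h
        rw [(minpoly.monic hint).coeff_natDegree, one_smul]
      · rw [smul_zero]
    rw [Finset.sum_congr rfl h2, Finset.sum_add_distrib, Finset.sum_ite_eq' (Finset.range (d + 1)),
      if_pos (by simp)]
    congr 1
    rw [derivative_apply, sum_over_range' f (by simp) (d + 1) (by omega), map_sum]
    refine Finset.sum_congr rfl fun n _ => ?_
    rw [map_mul, aeval_C, map_pow, aeval_X, ← Algebra.smul_def, smul_smul]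
  have h1 : derivative f + C (φ (T ^ d)) = 0 := by
    by_contra hne
    have h2 := natDegree_le_natDegree (minpoly.degree_le_of_ne_zero k T hne (by
      rw [map_add, aeval_C, Algebra.algebraMap_eq_smul_one, h0]))
    have h3 : (derivative f + C (φ (T ^ d))).natDegree ≤ d - 1 :=
      (natDegree_add_le _ _).trans (max_le (natDegree_derivative_le f) (by simp))
    change d ≤ _ at h2
    omega
  have h2 := congrArg (fun q : k[X] => q.coeff (d - 1)) h1
  simp only [coeff_add, coeff_zero, coeff_C, if_neg (show d - 1 ≠ 0 by omega), add_zero, coeff_derivative] at h2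
  rw [show d - 1 + 1 = d by omega, (minpoly.monic hint).coeff_natDegree, one_mul,
    show ((d - 1 : ℕ) : k) + 1 = (d : k) by rw [← Nat.cast_add_one, show d - 1 + 1 = d by omega],
    CharP.cast_eq_zero_iff k p] at h2
  exact absurd (Nat.le_of_dvd hd0 h2) (by omega)

/-- The multiplicative case. -/
theorem linearIndependent_pow_of_groupLike {c : k} (hc : c ≠ 0) (hT0 : T ≠ 0)
    (hu : IsGroupLikeElem k (1 + c • T)) (hup : (1 + c • T) ^ p = 1) :
    LinearIndependent k fun i : Fin p => T ^ (i : ℕ) := by
  set u := 1 + c • T with hu'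
  have hu1 : u ≠ 1 := fun e => by
    rw [hu', add_eq_left, smul_eq_zero] at e
    exact e.elim hc hT0
  have hord : orderOf u = p := orderOf_eq_prime hup hu1
  have hinj : Function.Injective fun i : Fin p => u ^ (i : ℕ) := fun a b e =>
    Fin.ext (pow_injOn_Iio_orderOf (x := u) (by simp [hord]) (by simp [hord]) e)
  have hliu : LinearIndependent k fun i : Fin p => u ^ (i : ℕ) := by
    have h := linearIndepOn_isGroupLikeElem (R := k) (A := B)
    exact h.comp (fun i : Fin p => (⟨u ^ (i : ℕ), hu.pow⟩ : {a : B | IsGroupLikeElem k a}))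
      (fun a b e => hinj (congrArg Subtype.val e))
  rw [linearIndependent_iff_card_le_finrank_span]
  have hle : Submodule.span k (Set.range fun i : Fin p => u ^ (i : ℕ)) ≤
      Submodule.span k (Set.range fun i : Fin p => T ^ (i : ℕ)) := by
    rw [Submodule.span_le]
    rintro _ ⟨i, rfl⟩
    show u ^ (i : ℕ) ∈ _
    rw [hu', add_comm, add_pow]
    refine Submodule.sum_mem _ fun m hm => ?_
    rw [one_pow, mul_one, _root_.smul_pow, smul_mul_assoc, ← nsmul_eq_mul']
    refine Submodule.smul_mem _ _ (AddSubmonoid.nsmul_mem _ ?_ _)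
    exact Submodule.subset_span ⟨⟨m, lt_of_lt_of_le (Finset.mem_range.mp hm) i.2⟩, rfl⟩
  have := Submodule.finrank_mono hle
  rwa [finrank_span_eq_card hliu] at this

/-- If `ε T = 0` and `Δ T = T ⊗ 1 + 1 ⊗ T + c T ⊗ T` with `(1 + cT)^p = 1`, the powers below p are independent. -/
theorem linearIndependent_pow_of_comul (c : k) (hT0 : T ≠ 0) (hε : counit (R := k) T = 0)
    (hΔ : comul (R := k) T = T ⊗ₜ[k] 1 + 1 ⊗ₜ[k] T + c • (T ⊗ₜ[k] T)) (hup : (1 + c • T) ^ p = 1) :
    LinearIndependent k fun i : Fin p => T ^ (i : ℕ) := by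
  by_cases hc : c = 0
  · subst hc
    rw [zero_smul, add_zero] at hΔ
    exact linearIndependent_pow_of_primitive hT0 hε hΔ
  · refine linearIndependent_pow_of_groupLike hc hT0 ⟨?_, ?_⟩ hup
    · rw [map_add, map_smul, hε, smul_zero, add_zero, Bialgebra.counit_one]
    · rw [map_add, map_smul, hΔ, Bialgebra.comul_one, Algebra.TensorProduct.one_def]
      simp only [add_tmul, tmul_add, smul_tmul', tmul_smul, smul_add, smul_smul]
      abel

end Groth.Agent.SekLib
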