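import Groth.Agent.SekLib.GKFree
import Groth.Agent.SekLib.AutTrivial
import Groth.Agent.SekLib.PowIndep
import Mathlib.RingTheory.RootsOfUnity.Lemmas
import Mathlib.RingTheory.DiscreteValuationRing.Basic
import Mathlib.RingTheory.Bialgebra.TensorProduct
import Mathlib.RingTheory.LocalRing.Module

/-!
# Finite flat bialgebras over a DVR with generic fibre the constant group ℤ/p
-/

set_option autoImplicit false

universe u

open SekSuwa Polynomial Coalgebra TensorProduct

namespace Groth.Agent.SekLib

variable {R : Type u} [CommRing R] [IsDomain R] [IsDiscreteValuationRing R]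

/-- The divisibility condition from a p-th root of unity. -/
theorem divCond_of_dvd_sub_one {p : ℕ} [hp : Fact p.Prime] {ζ lam : R} (hζ : IsPrimitiveRoot ζ p) (hl : lam ≠ 0)
    (hdvd : lam ∣ ζ - 1) : DivCond lam p := by
  refine ⟨mem_nonZeroDivisors_of_ne_zero hl, ?_⟩
  obtain ⟨z, -, hz⟩ := hζ.self_sub_one_pow_dvd_order (Nat.sub_lt hp.1.pos Nat.one_pos)
  have hlp : lam ^ (p - 1) ∣ (p : R) := hz ▸ (pow_dvd_pow_of_dvd hdvd _).mul_left _
  have key : C (lam ^ p) ∣ ((1 + C lam * X : R[X]) ^ p - 1) := by
    rw [C_dvd_iff_dvd_coeff]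
    intro i
    have hc : ((1 + C lam * X : R[X]) ^ p).coeff i = (p.choose i : R) * lam ^ i := by
      rw [show (1 + C lam * X : R[X]) ^ p = (((1 : R[X]) + X) ^ p).comp (C lam * X) by simp]
      rw [comp_C_mul_X_coeff, coeff_one_add_X_pow]
    rw [coeff_sub, hc, coeff_one]
    rcases Nat.eq_zero_or_pos i with rfl | hi
    · simp
    rw [if_neg hi.ne', sub_zero]
    rcases lt_trichotomy i p with h | rfl | h
    · obtain ⟨m, hm⟩ := hp.1.dvd_choose_self hi.ne' h
      obtain ⟨w, hw⟩ := hlp
      refine ⟨lam ^ (i - 1) * (w * m), ?_⟩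
      rw [hm, Nat.cast_mul, hw]
      have e : lam ^ (p - 1) * lam ^ i = lam ^ p * lam ^ (i - 1) := by
        rw [← pow_add, ← pow_add]; congr 1; omega
      linear_combination (w * (m : R)) * e
    · exact Dvd.intro_left _ rfl
    · simp [Nat.choose_eq_zero_of_lt h]
  obtain ⟨P, hP⟩ := key
  exact ⟨P, hP.symm⟩

variable {A : Type u} [CommRing A] [Bialgebra R A]

/-- The bialgebra map out of the coordinate ring of G_{λ,N} given by a coordinate with the correct coproduct. -/
theorem exists_bialgHom_AK {lam : R} {N : ℕ} (h : DivCond lam N) (hN : 0 < N) {t : A}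
    (ht : aeval t (psiPoly lam N h) = 0) (hε : counit (R := R) t = 0)
    (hΔ : comul (R := R) t = t ⊗ₜ[R] 1 + 1 ⊗ₜ[R] t + lam • (t ⊗ₜ[R] t)) :
    ∃ f : AK R lam N h →ₐc[R] A, f AK.t = t := by
  obtain ⟨φ, hφ⟩ := exists_pt h hN t ht
  refine ⟨BialgHom.ofAlgHom φ (pt_ext h ?_) (pt_ext h ?_), hφ⟩
  · show counit (R := R) (φ AK.t) = counit (R := R) (AK.t : AK R lam N h)
    rw [hφ, hε, AK.counit_t]
  · show Algebra.TensorProduct.map φ φ (comul (R := R) (AK.t : AK R lam N h)) = comul (R := R) (φ AK.t)
    rw [hφ, hΔ, AK.comul_t]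
    simp [hφ]

variable [CharZero R] {p : ℕ} [hp : Fact p.Prime] [CharP (IsLocalRing.ResidueField R) p]
  [Module.Finite R A] [Module.Free R A]

omit [IsDiscreteValuationRing R] [CharZero R] in
theorem eq_zero_of_forall_lift {A : Type u} [CommRing A] [Algebra R A] [Module.Free R A] {ι : Type*}
    (Q : ι → (A →ₐ[R] R)) (hinj : ∀ a, (∀ i, Q i a = 0) → a = 0)
    (z : A ⊗[R] A)
    (h : ∀ i j, Algebra.TensorProduct.lift (Q i) (Q j) (fun _ _ => Commute.all _ _) z = 0) : z = 0 := by
  classical
  let b := Module.Free.chooseBasis R A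
  let zi : ι → A := fun i => TensorProduct.lid R A ((Q i).toLinearMap.rTensor A z)
  have h1 : ∀ i, zi i = 0 := by
    intro i
    refine hinj _ fun j => ?_
    have key : ∀ w : A ⊗[R] A, Q j (TensorProduct.lid R A ((Q i).toLinearMap.rTensor A w)) =
        Algebra.TensorProduct.lift (Q i) (Q j) (fun _ _ => Commute.all _ _) w := by
      intro w
      induction w using TensorProduct.induction_on with
      | zero => simp
      | tmul x y => simp
      | add x y hx hy => simp only [map_add, hx, hy]
    exact (key z).trans (h i j)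
  refine (TensorProduct.equivFinsuppOfBasisRight (M := A) b).injective (Finsupp.ext fun l => hinj _ fun i => ?_)
  have h2 : b.coord l (zi i) = Q i (TensorProduct.equivFinsuppOfBasisRight b z l) := by
    show b.coord l (TensorProduct.lid R A ((Q i).toLinearMap.rTensor A z)) = _
    clear h h1 zi
    induction z using TensorProduct.induction_on with
    | zero => simp
    | tmul x y => simp [mul_comm]
    | add x y hx hy => simp only [map_add, Finsupp.add_apply, hx, hy]
  rw [← h2, h1 i, map_zero]

omit [CharP (IsLocalRing.ResidueField R) p] [Module.Free R A] in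
/-- Integral points. -/
theorem exists_intPoints {K : Type u} [Field K] [Algebra R K] [IsFractionRing R K]
    (P : ZMod p → (A →ₐ[R] K)) (i : ZMod p) : ∃ Q : A →ₐ[R] R, ∀ a, algebraMap R K (Q a) = P i a := by
  have h : ∀ a, ∃ r, algebraMap R K r = P i a := fun a =>
    IsIntegrallyClosed.isIntegral_iff.mp ((IsIntegral.of_finite R a).map (P i))
  choose q hq using h
  have hinj := IsFractionRing.injective R K
  exact ⟨{ toFun := q
           map_one' := hinj (by rw [hq, map_one, map_one])
           map_zero' := hinj (by rw [hq, map_zero, map_zero])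
           map_add' := fun a b => hinj (by rw [hq, map_add, map_add, hq, hq])
           map_mul' := fun a b => hinj (by rw [hq, map_mul, map_mul, hq, hq])
           commutes' := fun r => hinj (by rw [hq, AlgHom.commutes]; rfl) }, hq⟩

omit [CharP (IsLocalRing.ResidueField R) p] [CharZero R] in
/-- The group-like element with prescribed values. -/
theorem exists_groupLike (K : Type u) [Field K] [Algebra R K] [IsFractionRing R K] {M : Type*}
    [Monoid M] [Fintype M] (χ : M →* R) (Q : M → (A →ₐ[R] R))
    (hinj : ∀ a, (∀ i, Q i a = 0) → a = 0) (hQi : Function.Injective Q)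
    (hmul : ∀ i j a, Algebra.TensorProduct.lift (Q i) (Q j) (fun _ _ => Commute.all _ _) (comul (R := R) a) =
      Q (i * j) a) :
    ∃ x : A, (∀ i, Q i x = χ i) ∧ counit (R := R) x = 1 ∧ comul (R := R) x = x ⊗ₜ[R] x := by
  classical
  have hK := IsFractionRing.injective R K
  let Ψ : A →ₗ[R] (M → K) := LinearMap.pi fun i => (Algebra.linearMap R K) ∘ₗ (Q i).toLinearMap
  have htop : Submodule.span K (Set.range Ψ) = ⊤ := by
    by_contra hne
    obtain ⟨f, hf0, hf⟩ := Submodule.exists_le_ker_of_lt_top _ (lt_top_iff_ne_top.mpr hne)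
    let φ : M → (A →* K) := fun i => (algebraMap R K).toMonoidHom.comp (Q i).toRingHom.toMonoidHom
    have hφ : Function.Injective φ := fun i j e => hQi (AlgHom.ext fun a => hK (DFunLike.congr_fun e a))
    have hli := (linearIndependent_monoidHom A K).comp φ hφ
    rw [Fintype.linearIndependent_iff] at hli
    have hc := hli (fun i => f (Pi.single i 1)) (by
      funext a
      have h1 : f (Ψ a) = 0 := by
        exact LinearMap.mem_ker.mp (hf (Submodule.subset_span (Set.mem_range_self a)))
      rw [pi_eq_sum_univ (Ψ a), map_sum] at h1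
      rw [Finset.sum_apply, Pi.zero_apply, ← h1]
      refine Finset.sum_congr rfl fun i _ => ?_
      rw [map_smul, Pi.smul_apply, smul_eq_mul, smul_eq_mul, mul_comm]
      congr 2
      funext j
      simp [Pi.single_apply, eq_comm])
    refine hf0 (LinearMap.ext fun w => ?_)
    rw [pi_eq_sum_univ w, map_sum, LinearMap.zero_apply]
    refine Finset.sum_eq_zero fun i _ => ?_
    rw [map_smul]
    have : (fun j => if i = j then (1 : K) else 0) = Pi.single i 1 := by
      funext j; simp [Pi.single_apply, eq_comm]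
    rw [this, hc i, smul_zero]
  have hspan : ∀ w ∈ Submodule.span K (Set.range Ψ), ∃ (d : R) (a : A), d ≠ 0 ∧ Ψ a = d • w := by
    intro w hw
    induction hw using Submodule.span_induction with
    | mem w hw => obtain ⟨a, rfl⟩ := hw; exact ⟨1, a, one_ne_zero, (one_smul _ _).symm⟩
    | zero => exact ⟨1, 0, one_ne_zero, by simp⟩
    | add v w _ _ hv hw =>
      obtain ⟨d₁, a₁, hd₁, e₁⟩ := hv
      obtain ⟨d₂, a₂, hd₂, e₂⟩ := hw
      exact ⟨d₁ * d₂, d₂ • a₁ + d₁ • a₂, mul_ne_zero hd₁ hd₂, by
        rw [map_add, map_smul, map_smul, e₁, e₂, smul_smul, smul_smul, smul_add, mul_comm d₂ d₁]⟩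
    | smul c w _ hw =>
      obtain ⟨d, a, hd, e⟩ := hw
      obtain ⟨r, s, hs, rfl⟩ := IsFractionRing.div_surjective R c
      refine ⟨d * s, r • a, mul_ne_zero hd (nonZeroDivisors.ne_zero hs), ?_⟩
      rw [map_smul, e]
      funext i
      simp only [Pi.smul_apply]
      simp only [Algebra.smul_def, map_mul, Algebra.algebraMap_self, RingHom.id_apply]
      have : algebraMap R K s ≠ 0 := fun h0 => nonZeroDivisors.ne_zero hs (hK (h0.trans (map_zero _).symm))
      field_simp
  obtain ⟨d, a, hd, ha⟩ := hspan (fun i => algebraMap R K (χ i)) (htop ▸ Submodule.mem_top)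
  have hQa : ∀ i, Q i a = d * χ i := fun i => hK (by
    have := congrFun ha i
    simpa [Ψ, Algebra.smul_def] using this)
  have hζadd : ∀ i j : M, χ (i * j) = χ i * χ j := map_mul χ
  have hΔ : d • comul (R := R) a = a ⊗ₜ[R] a := sub_eq_zero.mp (eq_zero_of_forall_lift Q hinj _ fun i j => by
    rw [map_sub, map_smul, hmul, Algebra.TensorProduct.lift_tmul, hQa, hQa, hQa, hζadd, smul_eq_mul]
    ring)
  have ha0 : a ≠ 0 := fun h0 => by
    have h1 := hQa 1
    rw [h0, map_zero, map_one, mul_one] at h1
    exact hd h1.symm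
  have hεa : counit (R := R) a = d := by
    have h1 := congrArg (fun z => TensorProduct.lid R A ((counit (R := R) (A := A)).rTensor A z)) hΔ
    simp only [map_smul, Coalgebra.rTensor_counit_comul, TensorProduct.lid_tmul, one_smul,
      LinearMap.rTensor_tmul] at h1
    exact (smul_left_injective R ha0 h1).symm
  -- integrality of `φ a / d`
  let g : Module.Dual R A →ₗ[R] K :=
    { toFun := fun φ => algebraMap R K (φ a) / algebraMap R K d
      map_add' := fun φ ψ => by simp [add_div]
      map_smul' := fun r φ => by simp [Algebra.smul_def, mul_div_assoc] }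
  have hdK : algebraMap R K d ≠ 0 := fun h0 => hd (hK (h0.trans (map_zero _).symm))
  let S : Subalgebra R K := (LinearMap.range g).toSubalgebra ⟨counit, by
      show algebraMap R K (counit (R := R) a) / algebraMap R K d = 1
      rw [hεa, div_self hdK]⟩ (by
      rintro _ _ ⟨φ, rfl⟩ ⟨ψ, rfl⟩
      refine ⟨LinearMap.mul' R R ∘ₗ TensorProduct.map φ ψ ∘ₗ comul, ?_⟩
      have h1 := congrArg (LinearMap.mul' R R ∘ₗ TensorProduct.map φ ψ) hΔ
      rw [map_smul, LinearMap.comp_apply, LinearMap.comp_apply, TensorProduct.map_tmul, LinearMap.mul'_apply,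
        smul_eq_mul] at h1
      show algebraMap R K (LinearMap.mul' R R (TensorProduct.map φ ψ (comul (R := R) a))) / algebraMap R K d =
        algebraMap R K (φ a) / algebraMap R K d * (algebraMap R K (ψ a) / algebraMap R K d)
      rw [div_mul_div_comm, ← map_mul, ← h1, map_mul]
      field_simp)
  have hdiv : ∀ φ : Module.Dual R A, d ∣ φ a := by
    intro φ
    have hint : IsIntegral R (g φ) := IsIntegral.of_mem_of_fg S
      (by
        rw [show Subalgebra.toSubmodule S = LinearMap.range g from SetLike.coe_injective rfl]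
        exact Submodule.fg_range g) _ ⟨φ, rfl⟩
    obtain ⟨r, hr⟩ := IsIntegrallyClosed.isIntegral_iff.mp hint
    refine ⟨r, hK ?_⟩
    rw [map_mul, hr]
    show _ = algebraMap R K d * (algebraMap R K (φ a) / algebraMap R K d)
    field_simp
  let b := Module.Free.chooseBasis R A
  choose w hw using fun l => hdiv (b.coord l)
  let x := b.equivFun.symm w
  have hx : a = d • x := by
    refine b.equivFun.injective ?_
    rw [map_smul, LinearEquiv.apply_symm_apply]
    funext l
    rw [Pi.smul_apply, smul_eq_mul]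
    exact hw l
  refine ⟨x, fun i => mul_left_cancel₀ hd ?_, mul_left_cancel₀ hd ?_, ?_⟩
  · rw [← hQa i, hx, map_smul, smul_eq_mul]
  · rw [mul_one, ← smul_eq_mul d, ← map_smul, ← hx, hεa]
  · refine sub_eq_zero.mp (eq_zero_of_forall_lift Q hinj _ fun i j => ?_)
    have hQx : ∀ i, Q i x = χ i := fun i => mul_left_cancel₀ hd (by rw [← hQa i, hx, map_smul, smul_eq_mul])
    rw [map_sub, hmul, Algebra.TensorProduct.lift_tmul, hQx, hQx, hQx, hζadd]
    ring

/-- **A finite free bialgebra with generic fibre ℤ/p is the coordinate ring of some G_{λ,p}.** -/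
theorem exists_akEquiv (K : Type u) [Field K] [Algebra R K] [IsFractionRing R K] (ζ : R)
    (hζ : IsPrimitiveRoot ζ p) (P : ZMod p → (A →ₐ[R] K))
    (hinj : ∀ a, (∀ i, P i a = 0) → a = 0) (hPi : Function.Injective P)
    (hmul : ∀ i j a, Algebra.TensorProduct.lift (P i) (P j) (fun _ _ => Commute.all _ _) (comul (R := R) a) =
      P (i + j) a) :
    ∃ (lam : R) (h : DivCond lam p), lam ≠ 0 ∧ ∃ f : AK R lam p h →ₐc[R] A, Function.Bijective f := by
  classical
  have hK := IsFractionRing.injective R K
  choose Q hQ using fun i => exists_intPoints (A := A) P i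
  have hQinj : ∀ a, (∀ i, Q i a = 0) → a = 0 := fun a h => hinj a fun i => by rw [← hQ, h i, map_zero]
  have hQi : Function.Injective Q := fun i j e => hPi (AlgHom.ext fun a => by rw [← hQ, e, hQ])
  have hQmul : ∀ i j a, Algebra.TensorProduct.lift (Q i) (Q j) (fun _ _ => Commute.all _ _) (comul (R := R) a) =
      Q (i + j) a := by
    intro i j a
    refine hK ?_
    rw [hQ, ← hmul]
    generalize comul (R := R) a = z
    induction z using TensorProduct.induction_on with
    | zero => simp
    | tmul x y => simp [hQ]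
    | add x y hx hy => simp only [map_add, hx, hy]
  let χ : Multiplicative (ZMod p) →* R :=
    { toFun := fun i => ζ ^ (Multiplicative.toAdd i).val
      map_one' := by simp
      map_mul' := fun i j => by
        show ζ ^ (Multiplicative.toAdd i + Multiplicative.toAdd j).val = _
        rw [ZMod.val_add, ← pow_add, ← pow_eq_pow_mod _ hζ.pow_eq_one] }
  obtain ⟨x, hQx, hεx, hΔx⟩ := exists_groupLike K χ (fun i => Q (Multiplicative.toAdd i))
    (fun a h => hQinj a fun i => h (Multiplicative.ofAdd i))
    (fun i j e => Multiplicative.toAdd.injective (hQi e)) (fun i j a => hQmul _ _ a)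
  replace hQx : ∀ i, Q i x = ζ ^ i.val := fun i => hQx (Multiplicative.ofAdd i)
  have hxp : x ^ p = 1 := sub_eq_zero.mp (hQinj _ fun i => by
    rw [map_sub, map_pow, map_one, hQx, ← pow_mul, mul_comm, pow_mul, hζ.pow_eq_one, one_pow, sub_self])
  have h1p : Fact (1 < p) := ⟨hp.1.one_lt⟩
  have hx1 : x - 1 ≠ 0 := fun h0 => hζ.ne_one hp.1.one_lt (by
    have h1 := hQx 1
    rw [sub_eq_zero.mp h0, map_one, ZMod.val_one, pow_one] at h1
    exact h1.symm)
  -- maximal λ
  let b := Module.Free.chooseBasis R A
  let J : Ideal R := Ideal.span (Set.range fun l => b.equivFun (x - 1) l)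
  let lam := Submodule.IsPrincipal.generator J
  have hJ : J = Ideal.span {lam} := (Ideal.span_singleton_generator J).symm
  have hul : ∀ l, lam ∣ b.equivFun (x - 1) l := fun l =>
    Ideal.mem_span_singleton.mp (hJ ▸ Ideal.subset_span ⟨l, rfl⟩)
  choose v hv using hul
  let t := b.equivFun.symm v
  have hxt : x - 1 = lam • t := by
    refine b.equivFun.injective ?_
    rw [map_smul, LinearEquiv.apply_symm_apply]
    funext l
    rw [Pi.smul_apply, smul_eq_mul, hv l]
  have hlam : lam ≠ 0 := fun h0 => hx1 (by rw [hxt, h0, zero_smul])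
  have hlmem : lam ∈ J := Submodule.IsPrincipal.generator_mem J
  obtain ⟨l₀, hl₀⟩ : ∃ l, IsUnit (v l) := by
    by_contra hne
    push_neg at hne
    obtain ⟨w, hw⟩ := (Ideal.mem_span_range_iff_exists_fun (R := R)).mp hlmem
    have h2 : lam * ∑ l, w l * v l = lam * 1 := by
      rw [mul_one, Finset.mul_sum]
      refine (Finset.sum_congr rfl fun l _ => ?_).trans hw
      rw [hv l]; ring
    have h3 : (∑ l, w l * v l) ∈ IsLocalRing.maximalIdeal R := Ideal.sum_mem _ fun l _ =>
      Ideal.mul_mem_left _ _ ((IsLocalRing.mem_maximalIdeal _).mpr (mem_nonunits_iff.mpr (hne l)))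
    rw [mul_left_cancel₀ hlam h2] at h3
    exact (Ideal.ne_top_iff_one _).mp (IsLocalRing.maximalIdeal.isMaximal R).ne_top h3
  have hdvd : lam ∣ ζ - 1 := ⟨Q 1 t, by
    rw [← smul_eq_mul, ← map_smul, ← hxt, map_sub, map_one, hQx, ZMod.val_one, pow_one]⟩
  have h := divCond_of_dvd_sub_one hζ hlam hdvd
  have hut : 1 + lam • t = x := by rw [← hxt]; abel
  have hPt : aeval t (psiPoly lam p h) = 0 := by
    have e := aeval_psiPoly h t
    rw [← Algebra.smul_def lam t, hut, hxp, sub_self, ← Algebra.smul_def, smul_eq_zero] at e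
    exact e.resolve_left (pow_ne_zero _ hlam)
  have hεt : counit (R := R) t = 0 := by
    refine mul_left_cancel₀ hlam ?_
    rw [mul_zero, ← smul_eq_mul, ← map_smul, ← hxt, map_sub, hεx, Bialgebra.counit_one, sub_self]
  have hΔt : comul (R := R) t = t ⊗ₜ[R] 1 + 1 ⊗ₜ[R] t + lam • (t ⊗ₜ[R] t) := by
    refine smul_right_injective (A ⊗[R] A) hlam ?_
    show lam • comul (R := R) t = lam • _
    rw [← map_smul, ← hxt, map_sub, hΔx, ← hut, Bialgebra.comul_one, Algebra.TensorProduct.one_def]
    simp only [add_tmul, tmul_add, smul_tmul', tmul_smul, smul_add, smul_smul]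
    abel
  obtain ⟨f, hf⟩ := exists_bialgHom_AK h hp.1.pos hPt hεt hΔt
  refine ⟨lam, h, hlam, f, ?_⟩
  -- modulo the maximal ideal
  let k := IsLocalRing.ResidueField R
  let T : k ⊗[R] A := 1 ⊗ₜ t
  have hT0 : T ≠ 0 := by
    intro h0
    have h1 := congrArg (fun z => (Algebra.TensorProduct.basis k b).repr z l₀) h0
    simp only [T, Algebra.TensorProduct.basis_repr_tmul, map_zero, Finsupp.coe_zero, Pi.zero_apply,
      Finsupp.smul_apply, Finsupp.mapRange_apply, one_smul] at h1
    rw [← Module.Basis.equivFun_apply, LinearEquiv.apply_symm_apply] at h1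
    exact (IsLocalRing.residue_ne_zero_iff_isUnit _).mpr hl₀ h1
  have hεT : counit (R := k) T = 0 := by
    show counit (R := k) ((1 : k) ⊗ₜ[R] t) = 0
    rw [TensorProduct.counit_tmul, hεt, zero_smul]
  have hΔT : comul (R := k) T = T ⊗ₜ[k] 1 + 1 ⊗ₜ[k] T + algebraMap R k lam • (T ⊗ₜ[k] T) := by
    show comul (R := k) ((1 : k) ⊗ₜ[R] t) = _
    rw [TensorProduct.comul_tmul, hΔt, Bialgebra.comul_one, Algebra.TensorProduct.one_def, tmul_add, tmul_add, map_add, map_add,
      tmul_smul, ← algebraMap_smul k lam, map_smul]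
    rfl
  have hup : (1 + algebraMap R k lam • T) ^ p = 1 := by
    have h1 : (1 + algebraMap R k lam • T) = (1 : k) ⊗ₜ[R] x := by
      rw [← hut, tmul_add, tmul_smul, algebraMap_smul]; rfl
    rw [h1, Algebra.TensorProduct.tmul_pow, one_pow, hxp]; rfl
  have hli := linearIndependent_pow_of_comul (p := p) (algebraMap R k lam) hT0 hεT hΔT hup
  have hrankA : Module.finrank R A ≤ p := by
    have hΨ : Function.Injective (LinearMap.pi fun i : ZMod p => (Q i).toLinearMap) := by
      rw [injective_iff_map_eq_zero]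
      exact fun a ha => hQinj a fun i => congrFun ha i
    refine (LinearMap.finrank_le_finrank_of_injective hΨ).trans (le_of_eq ?_)
    rw [Module.finrank_pi, ZMod.card]
  have hkA : Module.finrank k (k ⊗[R] A) = Module.finrank R A := Module.finrank_baseChange
  have hA : Module.finrank R A = p := le_antisymm hrankA (by
    rw [← hkA]; simpa using hli.fintype_card_le_finrank)
  let bT := basisOfLinearIndependentOfCardEqFinrank hli (by rw [Fintype.card_fin, hkA, hA])
  have hgen : Submodule.span R (Set.range fun i : Fin p => t ^ (i : ℕ)) = ⊤ :=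
    IsLocalRing.span_eq_top_of_tmul_eq_basis _ bT fun i => by
      rw [coe_basisOfLinearIndependentOfCardEqFinrank]
      show _ = ((1 : k) ⊗ₜ[R] t) ^ (i : ℕ)
      rw [Algebra.TensorProduct.tmul_pow, one_pow]
  have hsurj : Function.Surjective f.toAlgHom.toLinearMap := by
    rw [← LinearMap.range_eq_top, eq_top_iff, ← hgen, Submodule.span_le]
    rintro _ ⟨i, rfl⟩
    exact ⟨AK.t ^ (i : ℕ), by
      show f.toAlgHom (AK.t ^ (i : ℕ)) = _
      rw [map_pow]; congr 1⟩
  let pb := (AdjoinRoot.powerBasis' (psiPoly_monic h hp.1.pos)).map (akEquiv h hp.1.pos)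
  have : Module.Finite R (AK R lam p h) := Module.Finite.of_basis pb.basis
  have : Module.Free R (AK R lam p h) := Module.Free.of_basis pb.basis
  have hAK : Module.finrank R (AK R lam p h) = p := by
    rw [pb.finrank]
    exact psiPoly_natDegree h hp.1.pos
  obtain ⟨e⟩ : Nonempty (A ≃ₗ[R] AK R lam p h) := FiniteDimensional.nonempty_linearEquiv_of_finrank_eq (hA.trans hAK.symm)
  have hinjf := OrzechProperty.injective_of_surjective_endomorphism (e.toLinearMap ∘ₗ f.toAlgHom.toLinearMap)
    (e.surjective.comp hsurj)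
  exact ⟨fun a b hab => hinjf (congrArg e hab), hsurj⟩

end Groth.Agent.SekLib
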