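import Groth.Agent.AffGrp.Bridge
import Groth.Agent.SekLib.SpecPts
import Groth.Prelude.Def_TwC
import Groth.Prelude.Def_SekSuwa2
import Mathlib.RingTheory.Flat.Basic
import Mathlib.RingTheory.Localization.FractionRing

/-!
# The generic points of an affine group scheme with constant generic fibre
-/

set_option autoImplicit false

universe u

open CategoryTheory CategoryTheory.Limits MonoidalCategory CartesianMonoidalCategory MonObj AlgebraicGeometry TensorProduct

namespace Groth.Agent.SekLib

variable {R : Type u} [CommRing R] {K : Type u} [CommRing K] [Algebra R K]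

local notation "fK" => Spec.map (CommRingCat.ofHom (algebraMap R K))

theorem homEquiv_symm_mul {G : Over (Spec (CommRingCat.of R))} [GrpObj G] {T : Over (Spec (CommRingCat.of K))}
    (x y : T ⟶ Red.bc fK G) :
    ((Over.mapPullbackAdj fK).homEquiv T G).symm (x * y) =
      ((Over.mapPullbackAdj fK).homEquiv T G).symm x * ((Over.mapPullbackAdj fK).homEquiv T G).symm y := by
  apply ((Over.mapPullbackAdj fK).homEquiv T G).injective
  rw [Equiv.apply_symm_apply, Adjunction.homEquiv_unit, CategoryTheory.Functor.map_mul, MonObj.comp_mul,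
    ← Adjunction.homEquiv_unit, ← Adjunction.homEquiv_unit, Equiv.apply_symm_apply, Equiv.apply_symm_apply]

/-- The points of an affine group whose base change to `K` is constant. -/
theorem exists_genericPoints (G : Over (Spec (CommRingCat.of R))) [GrpObj G] [Nontrivial K]
    (hK : Function.Injective (algebraMap R K))
    {M : Type} [Group M] (e : Red.bc fK G ≅ TwC.const (Spec (CommRingCat.of K)) M)
    (he : TwC.IsConstGrp M (Red.bc fK G) e)
    {A : CommRingCat.{u}} [HopfAlgebra R A] [Module.Flat R A]
    (e₀ : (Spec A).asOver (Spec (CommRingCat.of R)) ≅ G) [IsMonHom e₀.hom] :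
    ∃ P : M →* WithConv (A →ₐ[R] K), Function.Injective P ∧ ∀ a, (∀ m, (P m).ofConv a = 0) → a = 0 := by
  classical
  let f := Spec.map (CommRingCat.ofHom (algebraMap R K))
  let adj := Over.mapPullbackAdj f
  let j : (Spec (CommRingCat.of K)).asOver (Spec (CommRingCat.of R)) ⟶
      (Over.map f).obj (𝟙_ (Over (Spec (CommRingCat.of K)))) :=
    Over.homMk (𝟙 (Spec (CommRingCat.of K))) (by
      show 𝟙 (Spec (CommRingCat.of K)) ≫ 𝟙 (Spec (CommRingCat.of K)) ≫ f = _
      simp only [Category.id_comp]
      rfl)
  let pnt : M → ((Spec (CommRingCat.of K)).asOver (Spec (CommRingCat.of R)) ⟶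
      (Spec A).asOver (Spec (CommRingCat.of R))) := fun i =>
    j ≫ (adj.homEquiv _ G).symm (TwC.pt (Spec (CommRingCat.of K)) M i ≫ e.inv) ≫ e₀.inv
  let P₀ : M → WithConv (A →ₐ[R] K) := fun i => Spec.mapMulEquiv.symm (pnt i)
  have hmul : ∀ i k, P₀ (i * k) = P₀ i * P₀ k := by
    intro i k
    have h1 : pnt (i * k) = pnt i * pnt k := by
      show j ≫ _ ≫ _ = _
      rw [← he, homEquiv_symm_mul, MonObj.mul_comp, MonObj.comp_mul]
    show Spec.mapMulEquiv.symm (pnt (i * k)) = _
    rw [h1, map_mul]
  have hone : P₀ 1 = 1 := by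
    have h1 : pnt 1 = pnt 1 * pnt 1 := by
      conv_lhs => rw [← _root_.one_mul (1 : M)]
      show j ≫ _ ≫ _ = _
      rw [← he, homEquiv_symm_mul, MonObj.mul_comp, MonObj.comp_mul]
    show Spec.mapMulEquiv.symm (pnt 1) = _
    rw [mul_eq_left.mp h1.symm, map_one]
  refine ⟨{ toFun := P₀, map_one' := hone, map_mul' := hmul }, ?_, ?_⟩
  · intro a b hab
    have h1 : pnt a = pnt b := Spec.mapMulEquiv.symm.injective hab
    have : IsIso j := by
      have : IsIso ((Over.forget _).map j) := inferInstanceAs (IsIso (𝟙 (Spec (CommRingCat.of K))))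
      exact isIso_of_reflects_iso j (Over.forget _)
    have h2 := congrArg (fun g => g.left)
      ((cancel_mono e.inv).mp ((adj.homEquiv _ G).symm.injective ((cancel_mono e₀.inv).mp ((cancel_epi j).mp h1))))
    have hpt : IsEmpty (Spec (CommRingCat.of K)) → False := fun h => h.false (Classical.arbitrary (PrimeSpectrum K))
    by_contra hne
    exact hpt (isEmpty_of_commSq_sigmaι_of_ne (g := fun _ : M => Spec (CommRingCat.of K))
      (a := 𝟙 _) (b := 𝟙 _) ⟨by simpa [TwC.pt] using h2⟩ hne)
  · intro a ha
    have hP : ∀ i, Spec.map (CommRingCat.ofHom (P₀ i).ofConv.toRingHom) =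
        (Sigma.ι (fun _ : M => Spec (CommRingCat.of K)) i ≫ e.inv.left ≫ pullback.fst G.hom f) ≫ e₀.inv.left := by
      intro i
      refine (congrArg (fun g => g.left) (Spec.mapMulEquiv.apply_symm_apply (pnt i))).trans ?_
      show (j ≫ (adj.homEquiv _ G).symm (TwC.pt (Spec (CommRingCat.of K)) M i ≫ e.inv) ≫ e₀.inv).left = _
      rw [Adjunction.homEquiv_counit, Over.comp_left, Over.comp_left, Over.comp_left]
      show 𝟙 (Spec (CommRingCat.of K)) ≫ (((Over.map f).map (TwC.pt (Spec (CommRingCat.of K)) M i ≫ e.inv)).left ≫ _) ≫ _ = _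
      rw [Category.id_comp]
      simp [TwC.pt, adj]
    let a' := (Scheme.ΓSpecIso A).inv a
    let q := (e.inv.left ≫ pullback.fst G.hom f) ≫ e₀.inv.left
    have h1 : q.appTop a' = 0 := by
      refine Scheme.zero_of_zero_cover _ (sigmaOpenCover _) fun m => ?_
      show (Sigma.ι (fun _ : M => Spec (CommRingCat.of K)) m).appTop (q.appTop a') = 0
      have h2 : Sigma.ι (fun _ : M => Spec (CommRingCat.of K)) m ≫ q =
          Spec.map (CommRingCat.ofHom (P₀ m).ofConv.toRingHom) := by
        rw [hP]
        simp [q]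
      have h3 := congrArg (fun g => Scheme.Hom.appTop g a') h2
      simp only [Scheme.Hom.comp_appTop] at h3
      refine h3.trans ?_
      refine (congrArg (fun g => CommRingCat.Hom.hom g a)
        (Scheme.ΓSpecIso_inv_naturality (CommRingCat.ofHom (P₀ m).ofConv.toRingHom)).symm).trans ?_
      exact (congrArg (Scheme.ΓSpecIso (CommRingCat.of K)).inv.hom (ha m)).trans (map_zero _)
    let r : pullback (Spec.map (CommRingCat.ofHom (algebraMap R A))) f ⟶ pullback G.hom f :=
      pullback.map _ _ _ _ e₀.hom.left (𝟙 _) (𝟙 _) (by rw [Category.comp_id]; exact (Over.w e₀.hom).symm) (by simp)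
    have h4 : r ≫ e.hom.left ≫ q = pullback.fst (Spec.map (CommRingCat.ofHom (algebraMap R A))) f := by
      have h8 : e.hom.left ≫ e.inv.left = 𝟙 _ := congrArg (fun g => g.left) e.hom_inv_id
      have h9 : e₀.hom.left ≫ e₀.inv.left = 𝟙 _ := congrArg (fun g => g.left) e₀.hom_inv_id
      simp only [q, Category.assoc, reassoc_of% h8]
      simp only [r]
      rw [← Category.assoc, pullback.lift_fst, Category.assoc]
      exact (congrArg (pullback.fst (Spec.map (CommRingCat.ofHom (algebraMap R A))) f ≫ ·) h9).trans (Category.comp_id _)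
    have h5 : (pullback.fst (Spec.map (CommRingCat.ofHom (algebraMap R A))) f).appTop a' = 0 := by
      rw [← h4]
      show r.appTop (e.hom.left.appTop (q.appTop a')) = 0
      rw [h1]
      exact (congrArg r.appTop (map_zero _)).trans (map_zero _)
    have h6 := congrArg (fun g => Scheme.Hom.appTop g a') (pullbackSpecIso_inv_fst R A K)
    simp only [Scheme.Hom.comp_appTop] at h6
    have h7 : (Scheme.ΓSpecIso (CommRingCat.of (A ⊗[R] K))).inv
        ((Algebra.TensorProduct.includeLeft : A →ₐ[R] A ⊗[R] K) a) = 0 := by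
      refine (congrArg (fun g => CommRingCat.Hom.hom g a)
        (Scheme.ΓSpecIso_inv_naturality
          (CommRingCat.ofHom (Algebra.TensorProduct.includeLeftRingHom : A →+* A ⊗[R] K)))).trans ?_
      refine h6.symm.trans ?_
      exact (congrArg (pullbackSpecIso R A K).inv.appTop h5).trans (map_zero _)
    rw [← map_zero ((Scheme.ΓSpecIso (CommRingCat.of (A ⊗[R] K))).inv).hom] at h7
    refine Algebra.TensorProduct.includeLeft_injective (S := R) hK ?_
    rw [map_zero]
    exact (Scheme.ΓSpecIso (CommRingCat.of (A ⊗[R] K))).commRingCatIsoToRingEquiv.symm.injective h7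

end Groth.Agent.SekLib
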