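import Groth.Agent.SekLib.OrderP
import Groth.Agent.HopfSub.Main
import Mathlib.RingTheory.HopfAlgebra.TensorProduct
import Mathlib.GroupTheory.PGroup

/-!
# Models of constant groups of order p² are extensions of models of order p
-/

set_option autoImplicit false

universe u

open SekSuwa Polynomial Coalgebra TensorProduct

namespace Groth.Agent.SekLib

variable {R : Type u} [CommRing R] [IsDomain R] [IsDiscreteValuationRing R]

theorem exists_max_div {A : Type u} [CommRing A] [Algebra R A] [Module.Finite R A] [Module.Free R A]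
    {z : A} (hz : z ≠ 0) :
    ∃ (lam : R) (t : A), lam ≠ 0 ∧ z = lam • t ∧ (1 : IsLocalRing.ResidueField R) ⊗ₜ[R] t ≠ 0 := by
  classical
  let b := Module.Free.chooseBasis R A
  let J : Ideal R := Ideal.span (Set.range fun l => b.equivFun z l)
  let lam := Submodule.IsPrincipal.generator J
  have hJ : J = Ideal.span {lam} := (Ideal.span_singleton_generator J).symm
  have hul : ∀ l, lam ∣ b.equivFun z l := fun l =>
    Ideal.mem_span_singleton.mp (hJ ▸ Ideal.subset_span ⟨l, rfl⟩)
  choose v hv using hul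
  let t := b.equivFun.symm v
  have hxt : z = lam • t := by
    refine b.equivFun.injective ?_
    rw [map_smul, LinearEquiv.apply_symm_apply]
    funext l
    rw [Pi.smul_apply, smul_eq_mul, hv l]
  have hlam : lam ≠ 0 := fun h0 => hz (by rw [hxt, h0, zero_smul])
  have hlmem : lam ∈ J := Submodule.IsPrincipal.generator_mem J
  obtain ⟨l₀, hl₀⟩ : ∃ l, IsUnit (v l) := by
    by_contra hne
    push_neg at hne
    obtain ⟨w, hw⟩ := (Ideal.mem_span_range_iff_exists_fun (R := R)).mp hlmem
    have h2 : lam * ∑ l, w l * v l = lam * 1 := by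
      rw [mul_one, Finset.mul_sum]
      refine (Finset.sum_congr rfl fun l _ => ?_).trans hw
      rw [hv l]; ring
    have h3 : (∑ l, w l * v l) ∈ IsLocalRing.maximalIdeal R := Ideal.sum_mem _ fun l _ =>
      Ideal.mul_mem_left _ _ ((IsLocalRing.mem_maximalIdeal _).mpr (mem_nonunits_iff.mpr (hne l)))
    rw [mul_left_cancel₀ hlam h2] at h3
    exact (Ideal.ne_top_iff_one _).mp (IsLocalRing.maximalIdeal.isMaximal R).ne_top h3
  refine ⟨lam, t, hlam, hxt, fun h0 => ?_⟩
  have h1 := congrArg (fun w => (Algebra.TensorProduct.basis (IsLocalRing.ResidueField R) b).repr w l₀) h0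
  simp only [Algebra.TensorProduct.basis_repr_tmul, map_zero, Finsupp.coe_zero, Pi.zero_apply,
    Finsupp.smul_apply, Finsupp.mapRange_apply, one_smul] at h1
  rw [← Module.Basis.equivFun_apply, LinearEquiv.apply_symm_apply] at h1
  exact (IsLocalRing.residue_ne_zero_iff_isUnit _).mpr hl₀ h1

theorem exists_aeval_eq {lam : R} {N : ℕ} (h : DivCond lam N) (hN : 0 < N) (c : AK R lam N h) :
    ∃ q : R[X], c = aeval AK.t q := by
  obtain ⟨z, rfl⟩ := (akEquiv h hN).surjective c
  obtain ⟨q, rfl⟩ := AdjoinRoot.mk_surjective z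
  refine ⟨q, ?_⟩
  rw [← AdjoinRoot.aeval_eq]
  have h1 := (aeval_algHom_apply (akEquiv h hN).toAlgHom (AdjoinRoot.root (psiPoly lam N h)) q).symm
  rw [show (akEquiv h hN).toAlgHom (AdjoinRoot.root (psiPoly lam N h)) = AK.t from AdjoinRoot.liftAlgHom_root _ _ _ _] at h1
  exact h1
  exact AK.aeval_t

variable {A : Type u} [CommRing A] [HopfAlgebra R A] [CharZero R] {p : ℕ} [hp : Fact p.Prime]
  [CharP (IsLocalRing.ResidueField R) p] [Module.Finite R A] [Module.Free R A]

/-- **Models of constant groups of order p² are extensions.** -/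
theorem exists_extension (K : Type u) [Field K] [Algebra R K] [IsFractionRing R K] (ζ : R)
    (hζ : IsPrimitiveRoot ζ (p ^ 2)) {M : Type} [CommGroup M] [Fintype M] (hM : Nat.card M = p ^ 2)
    (hA : Module.finrank R A = p ^ 2)
    (P : M →* WithConv (A →ₐ[R] K)) (hPi : Function.Injective P)
    (hinj : ∀ a, (∀ m, (P m).ofConv a = 0) → a = 0) :
    ∃ (lam mu : R) (h₁ : DivCond lam p) (h₂ : DivCond mu p) (f : AK R mu p h₂ →ₐc[R] A)
      (g : A →ₐc[R] AK R lam p h₁), lam ≠ 0 ∧ mu ≠ 0 ∧ Function.Surjective g ∧ g (f AK.t) = 0 ∧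
      (∀ a, g a = 0 → ∃ c, a = f AK.t * c) ∧ (f : AK R mu p h₂ →+* A).FaithfullyFlat := by
  classical
  have hK := IsFractionRing.injective R K
  have h1p : Fact (1 < p) := ⟨hp.1.one_lt⟩
  -- integral points
  have hQex : ∀ m, ∃ Q : A →ₐ[R] R, ∀ a, algebraMap R K (Q a) = (P m).ofConv a := fun m =>
    exists_intPoints (p := p) (A := A) (fun _ => (P m).ofConv) 0
  choose Q hQ using hQex
  have hQinj : ∀ a, (∀ m, Q m a = 0) → a = 0 := fun a h => hinj a fun m => by rw [← hQ, h m, map_zero]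
  have hQi : Function.Injective Q := fun i j e => hPi (WithConv.ofConv_injective (AlgHom.ext fun a => by
    rw [← hQ, e, hQ]))
  have hQmul : ∀ i j a, Algebra.TensorProduct.lift (Q i) (Q j) (fun _ _ => Commute.all _ _) (comul (R := R) a) =
      Q (i * j) a := by
    intro i j a
    refine hK ?_
    rw [hQ, map_mul, AlgHom.convMul_def]
    show _ = Algebra.TensorProduct.lmul' R
      (Algebra.TensorProduct.map (P i).ofConv (P j).ofConv (comul (R := R) a))
    generalize comul (R := R) a = z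
    induction z using TensorProduct.induction_on with
    | zero => simp
    | tmul x y => simp [hQ]
    | add x y hx hy => simp only [map_add, hx, hy]
  have hQ1 : ∀ a, Q 1 a = counit (R := R) a := fun a => hK (by rw [hQ, map_one]; rfl)
  -- the subgroup and the quotient of order p
  obtain ⟨g₀, hg₀⟩ := exists_prime_orderOf_dvd_card' (G := M) p (by rw [hM]; exact dvd_pow_self p two_ne_zero)
  let N := Subgroup.zpowers g₀
  have hN : Nat.card N = p := by rw [Nat.card_zpowers, hg₀]
  have hMN : Nat.card (M ⧸ N) = p := by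
    have h1 := Subgroup.card_eq_card_quotient_mul_card_subgroup N
    rw [hM, hN, sq] at h1
    exact (Nat.eq_of_mul_eq_mul_right hp.1.pos h1).symm
  let eN : (M ⧸ N) ≃* Multiplicative (ZMod p) := mulEquivOfPrimeCardEq hMN (by simp [Nat.card_eq_fintype_card])
  let π : M →* Multiplicative (ZMod p) := eN.toMonoidHom.comp (QuotientGroup.mk' N)
  have hπs : Function.Surjective π := eN.surjective.comp (QuotientGroup.mk'_surjective N)
  let ι : ZMod p → M := fun i => g₀ ^ i.val
  have hgp : g₀ ^ p = 1 := by rw [← hg₀, pow_orderOf_eq_one]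
  have hιadd : ∀ i j, ι (i + j) = ι i * ι j := fun i j => by
    show g₀ ^ (i + j).val = g₀ ^ i.val * g₀ ^ j.val
    rw [ZMod.val_add, ← pow_add, ← pow_eq_pow_mod _ hgp]
  have hιinj : Function.Injective ι := fun i j e => ZMod.val_injective p
    (pow_injOn_Iio_orderOf (x := g₀) (by simp [hg₀, ZMod.val_lt]) (by simp [hg₀, ZMod.val_lt]) e)
  have hπker : ∀ m, π m = 1 → ∃ i, m = ι i := by
    intro m hm
    have h1 : m ∈ N := by
      rw [← QuotientGroup.eq_one_iff]
      exact eN.injective (hm.trans (map_one eN).symm)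
    obtain ⟨k, hk⟩ := (IsOfFinOrder.mem_powers_iff_mem_zpowers (isOfFinOrder_of_finite g₀)).mpr h1
    refine ⟨(k : ZMod p), hk.symm.trans ?_⟩
    show g₀ ^ k = g₀ ^ (k : ZMod p).val
    rw [ZMod.val_natCast, ← pow_eq_pow_mod _ hgp]
  have hπι : ∀ i, π (ι i) = 1 := fun i => by
    show eN (QuotientGroup.mk' N (g₀ ^ i.val)) = 1
    rw [show QuotientGroup.mk' N (g₀ ^ i.val) = 1 from
      (QuotientGroup.eq_one_iff _).mpr (pow_mem (Subgroup.mem_zpowers g₀) _), map_one]
  -- the character and the coordinate of the quotient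
  let ω := ζ ^ p
  have hω : IsPrimitiveRoot ω p := hζ.pow (pow_pos hp.1.pos 2) (sq p)
  let χ : M →* R :=
    { toFun := fun m => ω ^ (Multiplicative.toAdd (π m)).val
      map_one' := by simp
      map_mul' := fun i j => by
        rw [map_mul, toAdd_mul, ZMod.val_add, ← pow_add, ← pow_eq_pow_mod _ hω.pow_eq_one] }
  obtain ⟨y, hQy, hεy, hΔy⟩ := exists_groupLike K χ Q hQinj hQi hQmul
  have hyp : y ^ p = 1 := sub_eq_zero.mp (hQinj _ fun m => by
    rw [map_sub, map_pow, map_one, hQy]
    show (ω ^ (Multiplicative.toAdd (π m)).val) ^ p - 1 = 0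
    rw [← pow_mul, mul_comm, pow_mul, hω.pow_eq_one, one_pow, sub_self])
  obtain ⟨m₁, hm₁⟩ := hπs (Multiplicative.ofAdd 1)
  have hχ1 : χ m₁ = ω := by
    show ω ^ (Multiplicative.toAdd (π m₁)).val = ω
    rw [hm₁, toAdd_ofAdd, ZMod.val_one, pow_one]
  have hy1 : y - 1 ≠ 0 := fun h0 => hω.ne_one hp.1.one_lt (by
    rw [← hχ1, ← hQy m₁, sub_eq_zero.mp h0, map_one])
  obtain ⟨mu, t, hmu, hyt, hT0⟩ := exists_max_div (R := R) hy1
  have hdvd : mu ∣ ω - 1 := ⟨Q m₁ t, by
    rw [← smul_eq_mul, ← map_smul, ← hyt, map_sub, map_one, hQy, hχ1]⟩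
  have h₂ := divCond_of_dvd_sub_one hω hmu hdvd
  have hut : 1 + mu • t = y := by rw [← hyt]; abel
  have hPt : aeval t (psiPoly mu p h₂) = 0 := by
    have e := aeval_psiPoly h₂ t
    rw [← Algebra.smul_def mu t, hut, hyp, sub_self, ← Algebra.smul_def, smul_eq_zero] at e
    exact e.resolve_left (pow_ne_zero _ hmu)
  have hεt : counit (R := R) t = 0 := by
    refine mul_left_cancel₀ hmu ?_
    rw [mul_zero, ← smul_eq_mul, ← map_smul, ← hyt, map_sub, hεy, Bialgebra.counit_one, sub_self]
  have hΔt : comul (R := R) t = t ⊗ₜ[R] 1 + 1 ⊗ₜ[R] t + mu • (t ⊗ₜ[R] t) := by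
    refine smul_right_injective (A ⊗[R] A) hmu ?_
    show mu • comul (R := R) t = mu • _
    rw [← map_smul, ← hyt, map_sub, hΔy, ← hut, Bialgebra.comul_one, Algebra.TensorProduct.one_def]
    simp only [add_tmul, tmul_add, smul_tmul', tmul_smul, smul_add, smul_smul]
    abel
  obtain ⟨f, hf⟩ := exists_bialgHom_AK h₂ hp.1.pos hPt hεt hΔt
  have hQt : ∀ m, mu * Q m t = χ m - 1 := fun m => by
    rw [← smul_eq_mul, ← map_smul, ← hyt, map_sub, map_one, hQy]
  -- the subgroup
  let φH : A →ₐ[R] (ZMod p → R) := Pi.algHom R (fun _ => R) fun i => Q (ι i)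
  let I : Ideal A := RingHom.ker φH
  have hmemI : ∀ a, a ∈ I ↔ ∀ i, Q (ι i) a = 0 := fun a => by
    rw [RingHom.mem_ker]; exact funext_iff
  have hkin : Function.Injective (Ideal.kerLiftAlg φH) := Ideal.kerLiftAlg_injective φH
  have : Module.IsTorsionFree R (A ⧸ I) :=
    Function.Injective.moduleIsTorsionFree _ hkin (fun r a => map_smul (Ideal.kerLiftAlg φH) r a)
  have : Module.Free R (A ⧸ I) := Module.free_of_finite_type_torsion_free'
  let Q' : ZMod p → (A ⧸ I →ₐ[R] R) := fun i =>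
    Ideal.Quotient.liftₐ I (Q (ι i)) fun a ha => (hmemI a).mp ha i
  have hQ'mk : ∀ i a, Q' i (Ideal.Quotient.mk I a) = Q (ι i) a := fun i a => rfl
  have hQ'inj : ∀ b, (∀ i, Q' i b = 0) → b = 0 := by
    intro b hb
    obtain ⟨a, rfl⟩ := Ideal.Quotient.mk_surjective b
    exact Ideal.Quotient.eq_zero_iff_mem.mpr ((hmemI a).mpr fun i => (hQ'mk i a).symm.trans (hb i))
  have hmapQ : ∀ i j (z : A ⊗[R] A), Algebra.TensorProduct.lift (Q' i) (Q' j) (fun _ _ => Commute.all _ _)
      (Algebra.TensorProduct.map (Ideal.Quotient.mkₐ R I) (Ideal.Quotient.mkₐ R I) z) =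
      Algebra.TensorProduct.lift (Q (ι i)) (Q (ι j)) (fun _ _ => Commute.all _ _) z := by
    intro i j z
    induction z using TensorProduct.induction_on with
    | zero => simp
    | tmul x y => simp [hQ'mk]
    | add x y hx hy => simp only [map_add, hx, hy]
  have hcoid : (I.restrictScalars R).IsCoideal := by
    refine Submodule.IsCoideal.mk ?_ ?_
    · intro z hz
      rw [← hQ1, ← show ι 0 = 1 by simp [ι]]
      exact (hmemI z).mp hz 0
    · intro z hz
      show Algebra.TensorProduct.map (Ideal.Quotient.mkₐ R I) (Ideal.Quotient.mkₐ R I) (comul (R := R) z) = 0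
      refine eq_zero_of_forall_lift (A := A ⧸ I) Q' hQ'inj _ fun i j => ?_
      rw [hmapQ, hQmul, ← hιadd]
      exact (hmemI z).mp hz (i + j)
  obtain ⟨lam, h₁, hlam, fH, hfH⟩ := exists_akEquiv (A := A ⧸ I) K ω hω
    (fun i => (Algebra.ofId R K).comp (Q' i))
    (fun b hb => hQ'inj b fun i => hK ((hb i).trans (map_zero _).symm))
    (fun i j e => hιinj (hQi (AlgHom.ext fun a => hK (DFunLike.congr_fun e (Ideal.Quotient.mk I a)))))
    (fun i j b => by
      obtain ⟨a, rfl⟩ := Ideal.Quotient.mk_surjective b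
      rw [Bialgebra.Quotient.comul_mk I a]
      show Algebra.TensorProduct.lift _ _ _ (Algebra.TensorProduct.map (Ideal.Quotient.mkₐ R I) (Ideal.Quotient.mkₐ R I)
        (comul (R := R) a)) = algebraMap R K (Q' (i + j) (Ideal.Quotient.mk I a))
      rw [hQ'mk, hιadd, ← hQmul, ← hmapQ]
      generalize Algebra.TensorProduct.map (Ideal.Quotient.mkₐ R I) (Ideal.Quotient.mkₐ R I)
        (comul (R := R) a) = w
      induction w using TensorProduct.induction_on with
      | zero => simp
      | tmul x y => simp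
      | add x y hx hy => simp only [map_add, hx, hy])
  let eH := BialgEquiv.ofBijective fH hfH
  let g : A →ₐc[R] AK R lam p h₁ := eH.symm.toBialgHom.comp (Bialgebra.Quotient.mkBialgHom I)
  have hgI : ∀ a, g a = 0 ↔ a ∈ I := fun a => by
    show eH.symm (Ideal.Quotient.mk I a) = 0 ↔ _
    rw [← map_zero eH.symm, EmbeddingLike.apply_eq_iff_eq, Ideal.Quotient.eq_zero_iff_mem]
  have hgs : Function.Surjective g := eH.symm.surjective.comp Ideal.Quotient.mk_surjective
  have hgt : g (f AK.t) = 0 := by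
    rw [hgI, hmemI, hf]
    intro i
    refine mul_left_cancel₀ hmu ?_
    rw [hQt, mul_zero]
    show ω ^ (Multiplicative.toAdd (π (ι i))).val - 1 = 0
    rw [hπι, toAdd_one, ZMod.val_zero, pow_zero, sub_self]
  -- translations
  let τ : M → (A →ₐ[R] A) := fun m => (Algebra.TensorProduct.rid R R A).toAlgHom.comp
    ((Algebra.TensorProduct.map (AlgHom.id R A) (Q m)).comp (Bialgebra.comulAlgHom R A))
  have hQτ : ∀ n m a, Q n (τ m a) = Q (n * m) a := by
    intro n m a
    rw [← hQmul]
    show Q n (Algebra.TensorProduct.rid R R A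
      (Algebra.TensorProduct.map (AlgHom.id R A) (Q m) (comul (R := R) a))) = _
    generalize comul (R := R) a = z
    induction z using TensorProduct.induction_on with
    | zero => simp
    | tmul x y => simp [mul_comm]
    | add x y hx hy => simp only [map_add, hx, hy]
  have hττ : ∀ m, Function.Bijective (τ m) := fun m =>
    Function.bijective_iff_has_inverse.mpr ⟨τ m⁻¹,
      fun a => sub_eq_zero.mp (hQinj _ fun n => by rw [map_sub, hQτ, hQτ, inv_mul_cancel_right, sub_self]),
      fun a => sub_eq_zero.mp (hQinj _ fun n => by rw [map_sub, hQτ, hQτ, mul_inv_cancel_right, sub_self])⟩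
  have hτt : ∀ m, τ m (t - algebraMap R A (Q m t)) = χ m • t := fun m =>
    sub_eq_zero.mp (hQinj _ fun n => by
      rw [map_sub, hQτ, map_sub, AlgHom.commutes, map_smul, smul_eq_mul, Algebra.algebraMap_self, RingHom.id_apply]
      refine mul_left_cancel₀ hmu ?_
      rw [mul_zero, mul_sub, mul_sub, hQt, hQt, mul_left_comm, hQt, map_mul]
      ring)
  -- reduction
  let k := IsLocalRing.ResidueField R
  let fk : k ⊗[R] AK R mu p h₂ →ₐc[k] k ⊗[R] A := Bialgebra.TensorProduct.map (BialgHom.id k k) f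
  let pb := (AdjoinRoot.powerBasis' (psiPoly_monic h₂ hp.1.pos)).map (akEquiv h₂ hp.1.pos)
  have : Module.Finite R (AK R mu p h₂) := Module.Finite.of_basis pb.basis
  have : Module.Free R (AK R mu p h₂) := Module.Free.of_basis pb.basis
  have hdim : pb.dim = p := psiPoly_natDegree h₂ hp.1.pos
  have hgen : pb.gen = AK.t := AdjoinRoot.liftAlgHom_root (psiPoly mu p h₂) (Algebra.ofId R _) AK.t AK.aeval_t
  have hup : (1 + algebraMap R k mu • ((1 : k) ⊗ₜ[R] t)) ^ p = 1 := by
    have h1 : (1 + algebraMap R k mu • ((1 : k) ⊗ₜ[R] t)) = (1 : k) ⊗ₜ[R] y := by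
      rw [← hut, tmul_add, tmul_smul, algebraMap_smul]; rfl
    rw [h1, Algebra.TensorProduct.tmul_pow, one_pow, hyp]; rfl
  have hεT : counit (R := k) ((1 : k) ⊗ₜ[R] t) = 0 := by
    rw [TensorProduct.counit_tmul, hεt, zero_smul]
  have hΔT : comul (R := k) ((1 : k) ⊗ₜ[R] t) = ((1 : k) ⊗ₜ[R] t) ⊗ₜ[k] 1 + 1 ⊗ₜ[k] ((1 : k) ⊗ₜ[R] t) +
      algebraMap R k mu • (((1 : k) ⊗ₜ[R] t) ⊗ₜ[k] ((1 : k) ⊗ₜ[R] t)) := by
    rw [TensorProduct.comul_tmul, hΔt, Bialgebra.comul_one, Algebra.TensorProduct.one_def, tmul_add, tmul_add, map_add, map_add,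
      tmul_smul, ← algebraMap_smul k mu, map_smul]
    rfl
  have hli := linearIndependent_pow_of_comul (p := p) (algebraMap R k mu) hT0 hεT hΔT hup
  let bC := Algebra.TensorProduct.basis k pb.basis
  have hfkinj : Function.Injective fk := by
    refine LinearMap.injective_of_linearIndependent (f := (fk.toAlgHom.toLinearMap)) (v := bC)
      bC.span_eq ?_
    have : fk.toAlgHom.toLinearMap ∘ bC = (fun i : Fin p => ((1 : k) ⊗ₜ[R] t) ^ (i : ℕ)) ∘ Fin.cast hdim := by
      funext i
      show fk (bC i) = _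
      rw [Algebra.TensorProduct.basis_apply, PowerBasis.coe_basis, hgen]
      show (1 : k) ⊗ₜ[R] f (AK.t ^ (i : ℕ)) = ((1 : k) ⊗ₜ[R] t) ^ (i : ℕ)
      rw [map_pow, hf, Algebra.TensorProduct.tmul_pow, one_pow]
    rw [this]
    exact hli.comp _ (Fin.cast_injective hdim)
  letI : Algebra (k ⊗[R] AK R mu p h₂) (k ⊗[R] A) := (fk : k ⊗[R] AK R mu p h₂ →+* k ⊗[R] A).toAlgebra
  have : IsScalarTower k (k ⊗[R] AK R mu p h₂) (k ⊗[R] A) :=
    IsScalarTower.of_algebraMap_eq fun c => (fk.toAlgHom.commutes c).symm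
  have hff : Module.FaithfullyFlat (k ⊗[R] AK R mu p h₂) (k ⊗[R] A) :=
    HopfSub.faithfullyFlat fk (fun _ => rfl) hfkinj
  have : Module.Finite (k ⊗[R] AK R mu p h₂) (k ⊗[R] A) := Module.Finite.of_restrictScalars_finite k _ _
  have : IsArtinianRing (k ⊗[R] AK R mu p h₂) := IsArtinianRing.of_finite k _
  -- constant fibre rank
  have hrk : ∀ q : MaximalSpectrum (k ⊗[R] AK R mu p h₂),
      Module.finrank ((k ⊗[R] AK R mu p h₂) ⧸ q.1) (((k ⊗[R] AK R mu p h₂) ⧸ q.1) ⊗[k ⊗[R] AK R mu p h₂] (k ⊗[R] A)) =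
      Module.finrank k ((k ⊗[R] A) ⧸ Ideal.span {((1 : k) ⊗ₜ[R] t : k ⊗[R] A)}) := by
    rintro ⟨q, hq⟩
    let Ck := k ⊗[R] AK R mu p h₂
    let am : Fin p → R := fun m => Q (m₁ ^ (m : ℕ)) t
    have ham : Function.Injective am := by
      intro a b e
      have h1 := hQt (m₁ ^ (a : ℕ))
      rw [show Q (m₁ ^ (a : ℕ)) t = am a from rfl, e, show am b = Q (m₁ ^ (b : ℕ)) t from rfl, hQt, map_pow,
        map_pow, hχ1, sub_left_inj] at h1
      exact Fin.ext (hω.pow_inj b.2 a.2 h1).symm
    have hP0 : psiPoly mu p h₂ ≠ 0 := (psiPoly_monic h₂ hp.1.pos).ne_zero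
    have hsub : (Finset.univ.image am).val ≤ (psiPoly mu p h₂).roots := by
      refine (Multiset.le_iff_subset (Finset.nodup _)).mpr fun r hr => ?_
      obtain ⟨m, -, rfl⟩ := Finset.mem_image.mp (Finset.mem_def.mpr hr)
      rw [mem_roots hP0, IsRoot, ← coe_aeval_eq_eval, aeval_algHom_apply, hPt, map_zero]
    have hcard : Multiset.card (Finset.univ.image am).val = p := by
      rw [Finset.card_val, Finset.card_image_of_injective _ ham, Finset.card_univ, Fintype.card_fin]
    have hroots : (Finset.univ.image am).val = (psiPoly mu p h₂).roots :=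
      Multiset.eq_of_le_of_card_le hsub ((card_roots' _).trans ((psiPoly_natDegree h₂ hp.1.pos).trans hcard.symm).le)
    have hprod := prod_multiset_X_sub_C_of_monic_of_roots_card_eq (psiPoly_monic h₂ hp.1.pos)
      (by rw [← hroots, hcard, psiPoly_natDegree h₂ hp.1.pos])
    rw [← hroots] at hprod
    let T : Ck := (1 : k) ⊗ₜ AK.t
    have hT : aeval T (psiPoly mu p h₂) = 0 := by
      show aeval ((Algebra.TensorProduct.includeRight : AK R mu p h₂ →ₐ[R] Ck) AK.t) _ = 0
      rw [aeval_algHom_apply, AK.aeval_t, map_zero]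
    rw [← hprod, map_multiset_prod, Multiset.map_map] at hT
    obtain ⟨r, hr, hrq⟩ : ∃ r ∈ (Finset.univ.image am).val, T - algebraMap R Ck r ∈ q := by
      have hmem := (Ideal.IsPrime.multiset_prod_mem_iff_exists_mem hq.isPrime _).mp (hT ▸ q.zero_mem)
      obtain ⟨z, hz, hzq⟩ := hmem
      obtain ⟨r, hr, rfl⟩ := Multiset.mem_map.mp hz
      exact ⟨r, hr, by simpa using hzq⟩
    obtain ⟨m, -, rfl⟩ := Finset.mem_image.mp (Finset.mem_def.mpr hr)
    -- the ideal
    have hall : ∀ c : Ck, ∃ s : k, c - algebraMap k Ck s ∈ Ideal.span {T - algebraMap R Ck (am m)} := by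
      intro c
      induction c using TensorProduct.induction_on with
      | zero => exact ⟨0, by simp⟩
      | add a b ha hb =>
        obtain ⟨s, hs⟩ := ha
        obtain ⟨s', hs'⟩ := hb
        exact ⟨s + s', by rw [map_add, add_sub_add_comm]; exact add_mem hs hs'⟩
      | tmul a c =>
        obtain ⟨P', rfl⟩ := exists_aeval_eq h₂ hp.1.pos c
        refine ⟨a * algebraMap R k (P'.eval (am m)), ?_⟩
        have h1 : (a ⊗ₜ[R] aeval AK.t P' : Ck) - algebraMap k Ck (a * algebraMap R k (P'.eval (am m))) =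
            algebraMap k Ck a * (aeval T P' - algebraMap R Ck (P'.eval (am m))) := by
          have h2 : aeval T P' = (1 : k) ⊗ₜ[R] aeval (AK.t : AK R mu p h₂) P' :=
            aeval_algHom_apply (Algebra.TensorProduct.includeRight : AK R mu p h₂ →ₐ[R] Ck) AK.t P'
          rw [mul_sub, map_mul, ← IsScalarTower.algebraMap_apply, h2, Algebra.TensorProduct.algebraMap_apply,
            Algebra.algebraMap_self, RingHom.id_apply, Algebra.TensorProduct.tmul_mul_tmul, mul_one, one_mul]
        rw [h1]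
        refine Ideal.mul_mem_left _ _ (Ideal.mem_span_singleton.mpr ?_)
        rw [← aeval_algebraMap_apply_eq_algebraMap_eval]
        have := sub_dvd_eval_sub T (algebraMap R Ck (am m)) (P'.map (algebraMap R Ck))
        simpa [eval_map, aeval_def] using this
    have hqeq : q = Ideal.span {T - algebraMap R Ck (am m)} := by
      refine le_antisymm (fun c hc => ?_) ((Ideal.span_singleton_le_iff_mem _).mpr hrq)
      obtain ⟨s, hs⟩ := hall c
      have h1 : algebraMap k Ck s ∈ q := by
        have := q.sub_mem hc ((Ideal.span_singleton_le_iff_mem _).mpr hrq hs)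
        simpa using this
      have hs0 : s = 0 := by
        by_contra hs0
        exact hq.ne_top (q.eq_top_of_isUnit_mem h1 ((IsUnit.mk0 s hs0).map _))
      simpa [hs0] using hs
    have hbij : Function.Bijective (algebraMap k (Ck ⧸ q)) := by
      have : Nontrivial (Ck ⧸ q) := Ideal.Quotient.nontrivial_iff.mpr hq.ne_top
      refine ⟨(algebraMap k (Ck ⧸ q)).injective, fun z => ?_⟩
      obtain ⟨c, rfl⟩ := Ideal.Quotient.mk_surjective z
      obtain ⟨s, hs⟩ := hall c
      exact ⟨s, (Ideal.Quotient.eq.mpr (hqeq ▸ hs)).symm⟩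
    have hk1 : Module.finrank k (Ck ⧸ q) = 1 := by
      rw [← (AlgEquiv.ofBijective (Algebra.ofId k (Ck ⧸ q)) hbij).toLinearEquiv.finrank_eq, Module.finrank_self]
    letI : Field (Ck ⧸ q) := Ideal.Quotient.field q
    show Module.finrank (Ck ⧸ q) ((Ck ⧸ q) ⊗[Ck] (k ⊗[R] A)) = _
    have h2 := Module.finrank_mul_finrank k (Ck ⧸ q) ((Ck ⧸ q) ⊗[Ck] (k ⊗[R] A))
    rw [hk1, one_mul] at h2
    rw [h2, ((TensorProduct.quotTensorEquivQuotSMul (k ⊗[R] A) q).restrictScalars k).finrank_eq]
    -- translate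
    let σ : (k ⊗[R] A) ≃ₐ[k] (k ⊗[R] A) :=
      Algebra.TensorProduct.congr AlgEquiv.refl (AlgEquiv.ofBijective (τ (m₁ ^ (m : ℕ))) (hττ _))
    have hσ : σ (fk (T - algebraMap R Ck (am m))) =
        algebraMap R k (χ (m₁ ^ (m : ℕ))) • ((1 : k) ⊗ₜ[R] t : k ⊗[R] A) := by
      show σ ((fk : Ck →ₐc[k] k ⊗[R] A).toAlgHom ((1 : k) ⊗ₜ[R] AK.t - algebraMap R Ck (am m))) = _
      rw [map_sub, map_sub]
      show (1 : k) ⊗ₜ[R] τ (m₁ ^ (m : ℕ)) (f AK.t) - σ (fk.toAlgHom (algebraMap R Ck (am m))) = _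
      rw [IsScalarTower.algebraMap_apply R k Ck, AlgHom.commutes, AlgEquiv.commutes, hf, algebraMap_smul,
        ← tmul_smul, ← hτt, map_sub, AlgHom.commutes, tmul_sub, ← IsScalarTower.algebraMap_apply R k]
      congr 1
      exact (AlgHom.commutes (Algebra.TensorProduct.includeRight : A →ₐ[R] k ⊗[R] A) _).symm
    have hχu : IsUnit (algebraMap R k (χ (m₁ ^ (m : ℕ)))) := by
      rw [map_pow χ, hχ1]
      exact ((hω.isUnit hp.1.pos.ne').pow _).map _
    have hmap : (q • ⊤ : Submodule Ck (k ⊗[R] A)).restrictScalars k =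
        (Ideal.span {fk (T - algebraMap R Ck (am m))}).restrictScalars k := by
      rw [hqeq, Ideal.smul_top_eq_map, Ideal.map_span, Set.image_singleton]
      rfl
    let e1 : ((k ⊗[R] A) ⧸ (Ideal.span {fk (T - algebraMap R Ck (am m))} : Ideal (k ⊗[R] A))) ≃ₐ[k]
        ((k ⊗[R] A) ⧸ Ideal.span {((1 : k) ⊗ₜ[R] t : k ⊗[R] A)}) :=
      Ideal.quotientEquivAlg _ _ σ (by
        rw [Ideal.map_span, Set.image_singleton]
        show _ = Ideal.span {σ _}
        rw [hσ, Algebra.smul_def, Ideal.span_singleton_mul_left_unit (hχu.map _)])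
    rw [← e1.toLinearEquiv.finrank_eq]
    exact LinearEquiv.finrank_eq ((Submodule.Quotient.restrictScalarsEquiv k _).symm ≪≫ₗ
      Submodule.quotEquivOfEq _ _ hmap ≪≫ₗ Submodule.Quotient.restrictScalarsEquiv k _)
  have : Module.Free (k ⊗[R] AK R mu p h₂) (k ⊗[R] A) := Module.free_of_flat_of_finrank_eq _ _ (Module.finrank k ((k ⊗[R] A) ⧸ Ideal.span {((1 : k) ⊗ₜ[R] t : k ⊗[R] A)})) hrk
  -- lift a basis
  let w := Module.Free.chooseBasis (k ⊗[R] AK R mu p h₂) (k ⊗[R] A)
  have hmk : ∀ z : k ⊗[R] A, ∃ a, (1 : k) ⊗ₜ[R] a = z :=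
    TensorProduct.mk_surjective R A k IsLocalRing.residue_surjective
  have hmkC : ∀ z : k ⊗[R] AK R mu p h₂, ∃ a, (1 : k) ⊗ₜ[R] a = z :=
    TensorProduct.mk_surjective R _ k IsLocalRing.residue_surjective
  choose wA hwA using fun i => hmk (w i)
  letI : Algebra (AK R mu p h₂) A := (f : AK R mu p h₂ →+* A).toAlgebra
  have : IsScalarTower R (AK R mu p h₂) A := IsScalarTower.of_algebraMap_eq fun c => (f.toAlgHom.commutes c).symm
  let φ := Fintype.linearCombination (AK R mu p h₂) wA
  let φR : (_ → AK R mu p h₂) →ₗ[R] A := φ.restrictScalars R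
  have hsurj : Function.Surjective φR := by
    rw [← LinearMap.range_eq_top, ← IsLocalRing.map_tensorProduct_mk_eq_top, eq_top_iff]
    intro z _
    choose c hc using fun i => hmkC (w.equivFun z i)
    refine ⟨φR c, LinearMap.mem_range_self φR c, ?_⟩
    show (1 : k) ⊗ₜ[R] φ c = z
    conv_rhs => rw [← w.sum_equivFun z]
    rw [Fintype.linearCombination_apply, tmul_sum]
    refine Finset.sum_congr rfl fun i _ => ?_
    rw [← hc i, ← hwA i, Algebra.smul_def, Algebra.smul_def]
    show _ = fk ((1 : k) ⊗ₜ[R] c i) * ((1 : k) ⊗ₜ[R] wA i)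
    show (1 : k) ⊗ₜ[R] (f (c i) * wA i) = ((1 : k) ⊗ₜ[R] f (c i)) * ((1 : k) ⊗ₜ[R] wA i)
    rw [Algebra.TensorProduct.tmul_mul_tmul, one_mul]
  have hCk : Module.finrank R (AK R mu p h₂) = p := pb.finrank.trans hdim
  have hcard : Fintype.card (Module.Free.ChooseBasisIndex (k ⊗[R] AK R mu p h₂) (k ⊗[R] A)) = p := by
    have : Nontrivial (k ⊗[R] A) := ⟨_, _, hT0⟩
    have : Nontrivial (k ⊗[R] AK R mu p h₂) := RingHom.domain_nontrivial (fk : k ⊗[R] AK R mu p h₂ →+* k ⊗[R] A)
    have h1 := Module.finrank_mul_finrank k (k ⊗[R] AK R mu p h₂) (k ⊗[R] A)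
    rw [Module.finrank_baseChange, Module.finrank_baseChange, hCk, hA, sq, Module.finrank_eq_card_basis w] at h1
    exact Nat.eq_of_mul_eq_mul_left hp.1.pos h1
  have hinjφ : Function.Injective φR := by
    obtain ⟨e⟩ : Nonempty (A ≃ₗ[R] (Module.Free.ChooseBasisIndex (k ⊗[R] AK R mu p h₂) (k ⊗[R] A) → AK R mu p h₂)) :=
      FiniteDimensional.nonempty_linearEquiv_of_finrank_eq (by
        rw [Module.finrank_pi_fintype]
        simp [hCk, hcard, hA, sq])
    exact fun a b hab => OrzechProperty.injective_of_surjective_endomorphism (e.toLinearMap ∘ₗ φR)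
      (e.surjective.comp hsurj) (congrArg e hab)
  have : Module.Free (AK R mu p h₂) A :=
    Module.Free.of_equiv (LinearEquiv.ofBijective φ ⟨hinjφ, hsurj⟩)
  have : Nontrivial A := RingHom.domain_nontrivial (Bialgebra.counitAlgHom R A).toRingHom
  refine ⟨lam, mu, h₁, h₂, f, g, hlam, hmu, hgs, hgt, fun a ha => ?_,
    RingHom.faithfullyFlat_algebraMap_iff.mpr (inferInstance : Module.FaithfullyFlat (AK R mu p h₂) A)⟩
  obtain ⟨c, rfl⟩ := hsurj a
  have hc : ∀ i, ∃ c', c i = algebraMap R _ (counit (R := R) (c i)) + AK.t * c' := fun i => by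
    obtain ⟨P', hP'⟩ := exists_aeval_eq h₂ hp.1.pos (c i)
    refine ⟨aeval AK.t P'.divX, ?_⟩
    have h0 : counit (R := R) (c i) = P'.coeff 0 := by
      rw [hP', ← Bialgebra.counitAlgHom_apply, ← aeval_algHom_apply, Bialgebra.counitAlgHom_apply, AK.counit_t,
        coe_aeval_eq_eval, coeff_zero_eq_eval_zero]
    rw [h0, hP']
    conv_lhs => rw [← X_mul_divX_add P']
    rw [map_add, map_mul, aeval_X, aeval_C]
    ring
  choose c' hc' using hc
  have hg0 : ∑ i, counit (R := R) (c i) • g (wA i) = 0 := by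
    rw [← ha]
    show _ = g (φ c)
    rw [Fintype.linearCombination_apply, map_sum]
    refine Finset.sum_congr rfl fun i _ => ?_
    rw [Algebra.smul_def (c i), map_mul]
    show _ = g (f (c i)) * g (wA i)
    conv_rhs => rw [hc' i, map_add, map_add, map_mul, map_mul, hgt, zero_mul, add_zero]
    rw [show g (f (algebraMap R (AK R mu p h₂) (counit (R := R) (c i)))) = algebraMap R _ (counit (R := R) (c i)) from
      (g.comp f).toAlgHom.commutes _, ← Algebra.smul_def]
  have hψs : Function.Surjective (Fintype.linearCombination R (fun i => g (wA i))) := by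
    intro x
    obtain ⟨a, rfl⟩ := hgs x
    obtain ⟨d, rfl⟩ := hsurj a
    refine ⟨fun i => counit (R := R) (d i), ?_⟩
    show _ = g (φ d)
    rw [Fintype.linearCombination_apply, Fintype.linearCombination_apply, map_sum]
    refine Finset.sum_congr rfl fun i _ => ?_
    obtain ⟨P', hP'⟩ := exists_aeval_eq h₂ hp.1.pos (d i)
    have hdi : d i = algebraMap R _ (counit (R := R) (d i)) + AK.t * aeval AK.t P'.divX := by
      have h0 : counit (R := R) (d i) = P'.coeff 0 := by
        rw [hP', ← Bialgebra.counitAlgHom_apply, ← aeval_algHom_apply, Bialgebra.counitAlgHom_apply, AK.counit_t,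
          coe_aeval_eq_eval, coeff_zero_eq_eval_zero]
      rw [h0, hP']
      conv_lhs => rw [← X_mul_divX_add P']
      rw [map_add, map_mul, aeval_X, aeval_C]
      ring
    rw [Algebra.smul_def (d i), map_mul]
    show _ = g (f (d i)) * g (wA i)
    conv_rhs => rw [hdi, map_add, map_add, map_mul, map_mul, hgt, zero_mul, add_zero]
    rw [show g (f (algebraMap R (AK R mu p h₂) (counit (R := R) (d i)))) = algebraMap R _ (counit (R := R) (d i)) from
      (g.comp f).toAlgHom.commutes _, ← Algebra.smul_def]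
  let pb₁ := (AdjoinRoot.powerBasis' (psiPoly_monic h₁ hp.1.pos)).map (akEquiv h₁ hp.1.pos)
  have : Module.Finite R (AK R lam p h₁) := Module.Finite.of_basis pb₁.basis
  have : Module.Free R (AK R lam p h₁) := Module.Free.of_basis pb₁.basis
  have hψi : Function.Injective (Fintype.linearCombination R (fun i => g (wA i))) := by
    obtain ⟨e⟩ : Nonempty (AK R lam p h₁ ≃ₗ[R] (Module.Free.ChooseBasisIndex (k ⊗[R] AK R mu p h₂) (k ⊗[R] A) → R)) :=
      FiniteDimensional.nonempty_linearEquiv_of_finrank_eq (by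
        rw [Module.finrank_pi, hcard, pb₁.finrank]
        exact psiPoly_natDegree h₁ hp.1.pos)
    exact fun a b hab => OrzechProperty.injective_of_surjective_endomorphism
      (e.toLinearMap ∘ₗ Fintype.linearCombination R (fun i => g (wA i))) (e.surjective.comp hψs) (congrArg e hab)
  have hε0 : ∀ i, counit (R := R) (c i) = 0 := congrFun (hψi (a₁ := fun i => counit (R := R) (c i)) (a₂ := 0)
    (by rw [map_zero, Fintype.linearCombination_apply]; exact hg0))
  refine ⟨∑ i, f (c' i) * wA i, ?_⟩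
  show φ c = _
  rw [Fintype.linearCombination_apply, Finset.mul_sum]
  refine Finset.sum_congr rfl fun i _ => ?_
  conv_lhs => rw [hc' i, hε0 i, map_zero, zero_add, Algebra.smul_def, map_mul]
  rw [← mul_assoc]
  rfl

end Groth.Agent.SekLib
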