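import Groth.Agent.AffGrp.Bridge
import Groth.Agent.FinHopf.Deligne
import Groth.Prelude.Def_CGrpSh
import Groth.Prelude.Def_Mor2
import Mathlib.AlgebraicGeometry.Morphisms.FlatRank

/-!
# A commutative finite locally free group of order `m` is killed by `m`, and so are its Ext groups
-/

set_option autoImplicit false

universe u

open CategoryTheory MonoidalCategory CartesianMonoidalCategory MonObj AlgebraicGeometry WithConv

namespace Groth.Agent.SekLib

variable {R : Type u} [CommRing R]

/-- Deligne's theorem for group schemes over an affine base: every point is killed by the order. -/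
theorem pow_deg_eq_one {G : Over (Spec (CommRingCat.of R))} [GrpObj G] [IsCommMonObj G] {m : ℕ}
    (hG : Mor2.IsFinLocFreeOfDeg m G.hom) {T : Over (Spec (CommRingCat.of R))} (g : T ⟶ G) : g ^ m = 1 := by
  have : IsFinite G.hom := hG.1.1
  have : Flat G.hom := hG.1.2.1
  have : LocallyOfFinitePresentation G.hom := hG.1.2.2
  have : IsAffine G.left := isAffine_of_isAffineHom G.hom
  obtain ⟨A, iA, e, he⟩ := Groth.Agent.AffGrp.Bridge.exists_iso G
  let el : Spec (CommRingCat.of A) ⟶ G.left := e.hom.left
  have : IsIso el := inferInstanceAs (IsIso ((Over.forget _).map e.hom))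
  have hcomm : Coalgebra.IsCocomm R A := ⟨by
    let μe := AlgebraicGeometry.Spec.mapMulEquiv (R := R) (S := A) (T := TensorProduct R A A)
    let iL : A →ₐ[R] TensorProduct R A A := Algebra.TensorProduct.includeLeft
    let iR : A →ₐ[R] TensorProduct R A A := Algebra.TensorProduct.includeRight
    have h := μe.injective (a₁ := toConv iL * toConv iR) (a₂ := toConv iR * toConv iL) (by
      rw [map_mul, map_mul]
      refine (cancel_mono e.hom).mp ?_
      rw [MonObj.mul_comp, MonObj.mul_comp]
      exact mul_comm _ _)
    refine LinearMap.ext fun a => ?_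
    have h' := AlgHom.congr_fun (congrArg WithConv.ofConv h) a
    simp only [AlgHom.convMul_apply] at h'
    have key : ∀ z : TensorProduct R A A,
        Algebra.TensorProduct.lift iL iR (fun _ _ => Commute.all _ _) z = z ∧
        Algebra.TensorProduct.lift iR iL (fun _ _ => Commute.all _ _) z = TensorProduct.comm R A A z := fun z => by
      induction z with
      | zero => simp
      | tmul p q => simp [iL, iR]
      | add p q hp hq => exact ⟨by rw [map_add, hp.1, hq.1], by rw [map_add, map_add, hp.2, hq.2]⟩
    rw [(key _).1, (key _).2] at h'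
    exact h'.symm⟩
  have hspec : Spec.map (CommRingCat.ofHom (algebraMap R A)) = el ≫ G.hom := (Over.w e.hom).symm
  have hfin : IsFinite (Spec.map (CommRingCat.ofHom (algebraMap R A))) := by rw [hspec]; infer_instance
  have hflat : Flat (Spec.map (CommRingCat.ofHom (algebraMap R A))) := by rw [hspec]; infer_instance
  have hlfp : LocallyOfFinitePresentation (Spec.map (CommRingCat.ofHom (algebraMap R A))) := by
    rw [hspec]; infer_instance
  rw [IsFinite.SpecMap_iff] at hfin
  rw [Flat.SpecMap_iff] at hflat
  rw [LocallyOfFinitePresentation.SpecMap_iff] at hlfp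
  have : Module.Finite R A := RingHom.finite_algebraMap.mp hfin
  have : Module.Flat R A := RingHom.flat_algebraMap_iff.mp hflat
  have : Algebra.FinitePresentation R A := RingHom.finitePresentation_algebraMap.mp hlfp
  have : Module.FinitePresentation R A := Module.FinitePresentation.of_finite_of_finitePresentation R A
  have : Module.Projective R A := Module.Flat.projective_of_finitePresentation
  have hid : (toConv (AlgHom.id R A)) ^ m = 1 := by
    refine Groth.Agent.FinHopf.Deligne.convPow_id_eq_one m fun p => ?_
    rw [← Scheme.Hom.finrank_SpecMap_algebraMap, hspec, Scheme.Hom.finrank_comp_left_of_isIso]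
    exact hG.2 p
  have h1 : (𝟙 ((Spec A).asOver (Spec (CommRingCat.of R)))) ^ m = 1 := by
    have h2 := congrArg (AlgebraicGeometry.Spec.mapMulEquiv (R := R) (S := A) (T := A)) hid
    rw [map_pow, map_one] at h2
    refine Eq.trans ?_ h2
    congr 1
    exact Over.OverMorphism.ext (Spec.map_id _).symm
  have h3 : (𝟙 G : G ⟶ G) ^ m = 1 := by
    have h4 := congrArg (fun q => e.inv ≫ q ≫ e.hom) h1
    simp only [MonObj.pow_comp, MonObj.comp_pow, MonObj.one_comp, MonObj.comp_one, Category.id_comp, Iso.inv_hom_id] at h4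
    exact h4
  rw [← Category.comp_id g, ← MonObj.comp_pow, h3, MonObj.comp_one]

/-- Multiplication by the order kills Ext groups out of the sheaf of points. -/
theorem nsmul_extS_eq_zero (K : Precoverage Scheme.{u}) [(QuotSh.J K (Spec (CommRingCat.of R))).Subcanonical]
    {G H : Over (Spec (CommRingCat.of R))} [GrpObj G] [IsCommMonObj G] [GrpObj H] [IsCommMonObj H]
    {m : ℕ} (hG : Mor2.IsFinLocFreeOfDeg m G.hom) (n : ℕ) (x : CGrpSh.ExtS K G H n) : m • x = 0 := by
  have hz : (m • 𝟙 (CGrpSh.pts K G) : CGrpSh.pts K G ⟶ CGrpSh.pts K G) = 0 := by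
    refine Sheaf.hom_ext (NatTrans.ext (funext fun T => AddCommGrpCat.ext fun x => ?_))
    let ev : (CGrpSh.pts K G ⟶ CGrpSh.pts K G) →+ ((CGrpSh.pts K G).obj.obj T) :=
      AddMonoidHom.mk' (fun f => f.hom.app T x) (fun _ _ => rfl)
    show ev (m • 𝟙 _) = ev 0
    rw [map_nsmul, map_zero]
    show m • x = 0
    exact ULift.ext _ _ (by
      show Additive.ofMul (x.down.toMul ^ m) = 0
      rw [pow_deg_eq_one hG]
      rfl)
  calc m • x = m • ((Abelian.Ext.mk₀ (𝟙 _)).comp x (zero_add n)) := by rw [Abelian.Ext.mk₀_id_comp]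
    _ = (Abelian.Ext.mk₀ (m • 𝟙 (CGrpSh.pts K G))).comp x (zero_add n) := by
      let φ : (CGrpSh.pts K G ⟶ CGrpSh.pts K G) →+ CGrpSh.ExtS K G H n :=
        AddMonoidHom.mk' (fun f => (Abelian.Ext.mk₀ f).comp x (zero_add n)) fun f g => by
          rw [Abelian.Ext.mk₀_add, Abelian.Ext.add_comp]
      exact (map_nsmul φ m (𝟙 _)).symm
    _ = 0 := by rw [hz, Abelian.Ext.mk₀_zero, Abelian.Ext.zero_comp]

end Groth.Agent.SekLib
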