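import Groth.Agent.SekLib.SpecPts
import Groth.Prelude.Def_SekSuwa2
import Groth.Prelude.Def_Red
import Mathlib.RingTheory.Flat.TorsionFree

/-!
# The homomorphism α to μ_N on points, and the coordinate ring of G_{λ,N}
-/

set_option autoImplicit false

universe u

open CategoryTheory Limits AlgebraicGeometry SekSuwa

namespace Groth.Agent.SekLib

attribute [local instance] secAlgebra

variable {R : Type u} [CommRing R] {lam : R} {N : ℕ} (h : DivCond lam N)

/-- Evaluation of an algebra map on the generator of the character group. -/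
theorem monoidAlgebra_algHom_ext {B : Type u} [CommRing B] [Algebra R B]
    {f g : MonoidAlgebra R (Multiplicative (ZMod N)) →ₐ[R] B}
    (e : f (MonoidAlgebra.single (Multiplicative.ofAdd (1 : ZMod N)) 1) =
      g (MonoidAlgebra.single (Multiplicative.ofAdd (1 : ZMod N)) 1)) : f = g := by
  refine MonoidAlgebra.algHom_ext' ?_ (Subsingleton.elim _ _)
  have key : ∀ φ : MonoidAlgebra R (Multiplicative (ZMod N)) →ₐ[R] B, ∀ k : ℤ,
      φ (MonoidAlgebra.single (Multiplicative.ofAdd (k : ZMod N)) 1) =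
        ((((φ : MonoidAlgebra R (Multiplicative (ZMod N)) →* B).comp
          (MonoidAlgebra.of R (Multiplicative (ZMod N)))).toHomUnits (Multiplicative.ofAdd (1 : ZMod N)) ^ k : Bˣ) : B) := by
    intro φ k
    rw [← map_zpow, ← ofAdd_zsmul, zsmul_one]
    rfl
  refine MonoidHom.ext fun m => ?_
  obtain ⟨k, hk⟩ := ZMod.intCast_surjective (Multiplicative.toAdd m)
  have hm : m = Multiplicative.ofAdd (k : ZMod N) := by rw [hk, ofAdd_toAdd]
  subst hm
  show f (MonoidAlgebra.single _ 1) = g (MonoidAlgebra.single _ 1)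
  rw [key f, key g]
  congr 2
  exact Units.ext e

theorem alphaN_pt {T : Over (Spec (CommRingCat.of R))} (x : T ⟶ GK R lam N h) :
    ptHom (A := MonoidAlgebra R (Multiplicative (ZMod N))) (x ≫ alphaN R lam N h)
      (MonoidAlgebra.single (Multiplicative.ofAdd (1 : ZMod N)) 1) =
      1 + lam • ptHom (A := AK R lam N h) x AK.t := by
  rw [ptHom_comp x (alphaNHom R lam N h : MonoidAlgebra R (Multiplicative (ZMod N)) →ₐ[R] AK R lam N h)
    (alphaN R lam N h) rfl, AlgHom.comp_apply]
  show ptHom x (alphaNHom R lam N h _) = _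
  rw [alphaNHom_single_one, map_add, map_one, map_smul]

theorem pt_inv {B : Type u} [CommRing B] [Algebra R B] (φ : AK R lam N h →ₐ[R] B) :
    (1 + lam • φ AK.t) * φ AK.inv = 1 := by
  have e := congrArg (φ.comp (AK.mkHom R lam N h : A R lam →ₐ[R] AK R lam N h)) (A.u_mul_inv (R := R) (lam := lam))
  rwa [map_mul, map_one, A.u, map_add, map_one, map_smul] at e

/-- Points of G_{λ,N} are determined by `t`. -/
theorem pt_ext {B : Type u} [CommRing B] [Algebra R B] {φ φ' : AK R lam N h →ₐ[R] B}
    (e : φ AK.t = φ' AK.t) : φ = φ' := by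
  refine AK.algHom_ext e ?_
  have h1 := pt_inv h φ
  have h2 := pt_inv h φ'
  rw [← e] at h2
  linear_combination φ' AK.inv * h1 - φ AK.inv * h2

/-- On schemes where λ is a non-zero-divisor, α is injective on points. -/
theorem alphaN_injective {T : Over (Spec (CommRingCat.of R))}
    (hT : ∀ b : Γ(T.left, ⊤), lam • b = 0 → b = 0) {x y : T ⟶ GK R lam N h}
    (e : x ≫ alphaN R lam N h = y ≫ alphaN R lam N h) : x = y := by
  refine ptHom_injective (A := AK R lam N h) (pt_ext h (sub_eq_zero.mp (hT _ ?_)))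
  have h1 := alphaN_pt h x
  rw [e, alphaN_pt h y] at h1
  rw [smul_sub]
  linear_combination -h1

/-- On schemes where λ is invertible, α is bijective on points. -/
theorem alphaN_bijective {T : Over (Spec (CommRingCat.of R))} (hT : IsUnit (algebraMap R Γ(T.left, ⊤) lam)) :
    Function.Bijective fun x : T ⟶ GK R lam N h => x ≫ alphaN R lam N h := by
  refine ⟨fun x y e => alphaN_injective h (fun b hb => ?_) e, fun z => ?_⟩
  · rw [Algebra.smul_def] at hb
    exact (IsUnit.mul_right_eq_zero hT).mp hb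
  obtain ⟨v, hv⟩ := hT
  let ψ := ptHom (A := MonoidAlgebra R (Multiplicative (ZMod N))) z
  let g := Multiplicative.ofAdd (1 : ZMod N)
  let ζ := ψ (MonoidAlgebra.single g 1)
  let c := ψ (MonoidAlgebra.single g⁻¹ 1)
  let b := (↑v⁻¹ : Γ(T.left, ⊤)) * (ζ - 1)
  have hb : 1 + lam • b = ζ := by
    rw [Algebra.smul_def, ← hv, ← mul_assoc, Units.mul_inv, one_mul]
    ring
  have hc : ζ * c = 1 := by
    rw [← map_mul, MonoidAlgebra.single_mul_single, mul_inv_cancel, mul_one]
    exact map_one ψ
  have hN : ζ ^ N = 1 := by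
    have hg : g ^ N = 1 := by
      rw [← ofAdd_nsmul, nsmul_one, ZMod.natCast_self]
      rfl
    rw [← map_pow, MonoidAlgebra.single_pow, hg, one_pow]
    exact map_one ψ
  have hP : Polynomial.aeval b (psiPoly lam N h) = 0 := by
    have e := aeval_psiPoly h b
    rw [show 1 + algebraMap R Γ(T.left, ⊤) lam * b = ζ by rw [← Algebra.smul_def, hb], hN, sub_self] at e
    rw [map_pow, ← hv] at e
    exact (Units.mul_right_eq_zero (v ^ N)).mp (by rwa [Units.val_pow_eq_pow_val])
  let φ : AK R lam N h →ₐ[R] Γ(T.left, ⊤) := Ideal.Quotient.liftₐ (kerIdeal lam N h)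
    (A.lift R lam b c (by rw [hb, hc])) (by
      intro a ha
      obtain ⟨d, rfl⟩ := Ideal.mem_span_singleton'.mp ha
      rw [map_mul, kerGen, ← Polynomial.aeval_algHom_apply, A.lift_t, hP, mul_zero])
  obtain ⟨x, hx⟩ := exists_ptHom_eq (A := AK R lam N h) φ
  refine ⟨x, ptHom_injective (A := MonoidAlgebra R (Multiplicative (ZMod N))) (monoidAlgebra_algHom_ext ?_)⟩
  rw [alphaN_pt h x, hx]
  show 1 + lam • A.lift R lam b c (show (1 + lam • b) * c = 1 by rw [hb, hc]) A.t = ζ
  rw [A.lift_t, hb]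

/-- α becomes an isomorphism wherever λ is invertible. -/
theorem isIso_pullback_map_alphaN {S' : Scheme.{u}} (f : S' ⟶ Spec (CommRingCat.of R))
    (hf : IsUnit (((Scheme.ΓSpecIso (CommRingCat.of R)).inv ≫ f.appTop).hom lam)) :
    IsIso ((Over.pullback f).map (alphaN R lam N h)) := by
  refine isIso_pullback_map_of_bijective f _ fun T => alphaN_bijective h ?_
  show IsUnit (((Scheme.ΓSpecIso (CommRingCat.of R)).inv ≫ (T.hom ≫ f).appTop).hom lam)
  rw [Scheme.Hom.comp_appTop, ← Category.assoc]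
  exact hf.map T.hom.appTop.hom

/-- A non-zero-divisor of `R` is a non-zero-divisor on the sections of a flat scheme. -/
theorem eq_zero_of_smul_eq_zero {T : Over (Spec (CommRingCat.of R))} [Flat T.hom] {r : R} (hr : r ∈ nonZeroDivisors R)
    {b : Γ(T.left, ⊤)} (hb : r • b = 0) : b = 0 := by
  refine TopCat.Sheaf.eq_of_locally_eq' T.left.sheaf (fun U : T.left.affineOpens => U.1) ⊤
    (fun U => homOfLE le_top) (by rw [iSup_affineOpens_eq_top]) b 0 fun U => ?_
  rw [map_zero]
  let ρ : CommRingCat.of R ⟶ Γ(T.left, U) := (Scheme.ΓSpecIso (CommRingCat.of R)).inv ≫ T.hom.appLE ⊤ U le_top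
  have hρ : ρ.hom.Flat := RingHom.Flat.comp
    (RingHom.Flat.of_bijective (ConcreteCategory.bijective_of_isIso (Scheme.ΓSpecIso (CommRingCat.of R)).inv))
    (T.hom.flat_appLE (isAffineOpen_top _) U.2 le_top)
  algebraize [ρ.hom]
  have h2 : algebraMap R Γ(T.left, U) r * T.left.presheaf.map (homOfLE (le_top : U.1 ≤ ⊤)).op b = 0 := by
    have h1 := congrArg (T.left.presheaf.map (homOfLE (le_top : U.1 ≤ ⊤)).op) hb
    rw [map_zero, Algebra.smul_def, map_mul] at h1
    exact h1
  rw [← Algebra.smul_def] at h2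
  exact Module.IsTorsionFree.isSMulRegular (M := Γ(T.left, U)) (isRegular_iff_mem_nonZeroDivisors.mpr hr) (h2.trans (smul_zero r).symm)

end Groth.Agent.SekLib
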